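import Cfsg.Agent.Lib.Geo.G2MinDeg.Rels

/-!
# The simple monomial elements and the torus in coordinates

Owner: helper23.
-/

set_option autoImplicit false

namespace CfsgLib.G2Deg

open Cfsg.Lie CfsgLib.Lie.Chev CfsgLib.HallGen.ChevG2

theorem simple_facts :
    chevG2.simple 0 = 7 ∧ chevG2.simple 1 = 6 ∧
    ([6, 7, 8, 9, 10, 11].map fun r => (auxG2.w 0 r, auxG2.eta 0 r, chevG2.cartan 0 r)) =
      [(10, 1, -3), (4, -1, 2), (9, 1, -1), (8, -1, 1), (6, -1, 3), (11, 1, 0)] ∧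
    ([6, 7, 8, 9, 10, 11].map fun r => (auxG2.w 1 r, auxG2.eta 1 r, chevG2.cartan 1 r)) =
      [(5, -1, 2), (8, 1, -1), (7, -1, 1), (9, 1, 0), (11, 1, -1), (10, -1, 1)] := by
  decide +kernel

theorem root_facts :
    (auxG2.w 0 6, auxG2.eta 0 6, chevG2.cartan 0 6) = (10, 1, -3) ∧
    (auxG2.w 0 8, auxG2.eta 0 8, chevG2.cartan 0 8) = (9, 1, -1) ∧
    (auxG2.w 0 9, auxG2.eta 0 9, chevG2.cartan 0 9) = (8, -1, 1) ∧
    (auxG2.w 0 10, auxG2.eta 0 10, chevG2.cartan 0 10) = (6, -1, 3) ∧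
    (auxG2.w 0 11, auxG2.eta 0 11, chevG2.cartan 0 11) = (11, 1, 0) ∧
    (auxG2.w 0 7, auxG2.eta 0 7, chevG2.cartan 0 7) = (4, -1, 2) ∧
    (auxG2.w 1 7, auxG2.eta 1 7, chevG2.cartan 1 7) = (8, 1, -1) ∧
    (auxG2.w 1 8, auxG2.eta 1 8, chevG2.cartan 1 8) = (7, -1, 1) ∧
    (auxG2.w 1 9, auxG2.eta 1 9, chevG2.cartan 1 9) = (9, 1, 0) ∧
    (auxG2.w 1 10, auxG2.eta 1 10, chevG2.cartan 1 10) = (11, 1, -1) ∧
    (auxG2.w 1 11, auxG2.eta 1 11, chevG2.cartan 1 11) = (10, -1, 1) ∧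
    (auxG2.w 1 6, auxG2.eta 1 6, chevG2.cartan 1 6) = (5, -1, 2) := by
  decide +kernel

variable (F : Type*) [Field F]

/-- The monomial element of the short simple root. -/
noncomputable def na : GG F := (RR F).ne (chevG2.simple 0) 1

/-- The monomial element of the long simple root. -/
noncomputable def nb : GG F := (RR F).ne (chevG2.simple 1) 1

/-- The torus element scaling `a` by `τ` and `b` by `σ`. -/
noncomputable def tor (τ σ : Fˣ) : GG F :=
  (RR F).he (chevG2.simple 0) ((τ ^ 2 * σ : Fˣ) : F) *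
    (RR F).he (chevG2.simple 1) ((τ ^ 3 * σ ^ 2 : Fˣ) : F)

variable {F}

theorem n_mul {i r r' : ℕ} {e k : ℤ} (hi : i < chevG2.rank) (hr : r < 12)
    (h : (auxG2.w i r, auxG2.eta i r, chevG2.cartan i r) = (r', e, k)) (t : F) :
    (RR F).ne (chevG2.simple i) 1 * xx F r t = xx F r' ((e : F) * t) * (RR F).ne (chevG2.simple i) 1 := by
  simp only [Prod.mk.injEq] at h
  have := (RR F).nconj i r 1 t hi hr one_ne_zero
  rw [h.1, h.2.1, one_zpow, mul_one] at this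
  exact this

theorem na_6 (t : F) : na F * xx F 6 t = xx F 10 t * na F := by
  simpa [na] using n_mul (F := F) (i := 0) (by decide) (by norm_num) root_facts.1 t

theorem na_8 (t : F) : na F * xx F 8 t = xx F 9 t * na F := by
  simpa [na] using n_mul (F := F) (i := 0) (by decide) (by norm_num) root_facts.2.1 t

theorem na_9 (t : F) : na F * xx F 9 t = xx F 8 (-t) * na F := by
  simpa [na] using n_mul (F := F) (i := 0) (by decide) (by norm_num) root_facts.2.2.1 t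

theorem na_10 (t : F) : na F * xx F 10 t = xx F 6 (-t) * na F := by
  simpa [na] using n_mul (F := F) (i := 0) (by decide) (by norm_num) root_facts.2.2.2.1 t

theorem na_11 (t : F) : na F * xx F 11 t = xx F 11 t * na F := by
  simpa [na] using n_mul (F := F) (i := 0) (by decide) (by norm_num) root_facts.2.2.2.2.1 t

theorem na_7 (t : F) : na F * xx F 7 t = xx F 4 (-t) * na F := by
  simpa [na] using n_mul (F := F) (i := 0) (by decide) (by norm_num) root_facts.2.2.2.2.2.1 t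

theorem nb_7 (t : F) : nb F * xx F 7 t = xx F 8 t * nb F := by
  simpa [nb] using n_mul (F := F) (i := 1) (by decide) (by norm_num) root_facts.2.2.2.2.2.2.1 t

theorem nb_8 (t : F) : nb F * xx F 8 t = xx F 7 (-t) * nb F := by
  simpa [nb] using n_mul (F := F) (i := 1) (by decide) (by norm_num) root_facts.2.2.2.2.2.2.2.1 t

theorem nb_9 (t : F) : nb F * xx F 9 t = xx F 9 t * nb F := by
  simpa [nb] using n_mul (F := F) (i := 1) (by decide) (by norm_num) root_facts.2.2.2.2.2.2.2.2.1 t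

theorem nb_10 (t : F) : nb F * xx F 10 t = xx F 11 t * nb F := by
  simpa [nb] using n_mul (F := F) (i := 1) (by decide) (by norm_num) root_facts.2.2.2.2.2.2.2.2.2.1 t

theorem nb_11 (t : F) : nb F * xx F 11 t = xx F 10 (-t) * nb F := by
  simpa [nb] using n_mul (F := F) (i := 1) (by decide) (by norm_num)
    root_facts.2.2.2.2.2.2.2.2.2.2.1 t

theorem nb_6 (t : F) : nb F * xx F 6 t = xx F 5 (-t) * nb F := by
  simpa [nb] using n_mul (F := F) (i := 1) (by decide) (by norm_num)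
    root_facts.2.2.2.2.2.2.2.2.2.2.2 t

/-- The multiplier of a root with coordinates `(i, j)`. -/
theorem tor_mul (τ σ : Fˣ) {r : ℕ} (hr : r < 12) {i j : ℕ}
    (hA : chevG2.cartan 0 r = 2 * (i : ℤ) - 3 * j) (hB : chevG2.cartan 1 r = 2 * (j : ℤ) - i) (t : F) :
    tor F τ σ * xx F r t = xx F r ((τ : F) ^ i * (σ : F) ^ j * t) * tor F τ σ := by
  have h0 : ∀ (k : Fin chevG2.rank) (c : Fˣ) (u : F), (RR F).he (chevG2.simple k) (c : F) * xx F r u =
      xx F r ((c : F) ^ chevG2.cartan k r * u) * (RR F).he (chevG2.simple k) (c : F) := by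
    intro k c u
    have := ((RR F).isMon_he_simple k c.ne_zero ⟨r, hr⟩).2.2.2 u
    rw [Equiv.Perm.one_apply] at this
    exact (mul_inv_eq_iff_eq_mul.1 this)
  have a := h0 i0 (τ ^ 2 * σ)
  have b := h0 i1 (τ ^ 3 * σ ^ 2)
  simp only [i0, i1] at a b
  rw [tor, mul_assoc, b, ← mul_assoc, a, mul_assoc, ← mul_assoc _ _ t]
  congr 2
  rw [hA, hB]
  have hu : ((τ ^ 2 * σ : Fˣ) ^ (2 * (i : ℤ) - 3 * j)) * (τ ^ 3 * σ ^ 2 : Fˣ) ^ (2 * (j : ℤ) - i) =
      τ ^ (i : ℤ) * σ ^ (j : ℤ) := by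
    simp only [mul_zpow, ← zpow_natCast τ 2, ← zpow_natCast τ 3, ← zpow_natCast σ 2, ← zpow_mul]
    rw [mul_mul_mul_comm, ← zpow_add, ← zpow_add]
    congr 2 <;> push_cast <;> ring
  have := congrArg (Units.val (α := F)) hu
  simp at this ⊢; exact Or.inl this

theorem cartan_facts :
    (chevG2.cartan 0 6 = -3 ∧ chevG2.cartan 1 6 = 2) ∧ (chevG2.cartan 0 7 = 2 ∧ chevG2.cartan 1 7 = -1) ∧
    (chevG2.cartan 0 8 = -1 ∧ chevG2.cartan 1 8 = 1) ∧ (chevG2.cartan 0 9 = 1 ∧ chevG2.cartan 1 9 = 0) ∧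
    (chevG2.cartan 0 10 = 3 ∧ chevG2.cartan 1 10 = -1) ∧ (chevG2.cartan 0 11 = 0 ∧ chevG2.cartan 1 11 = 1) := by
  decide +kernel

theorem tor_6 (τ σ : Fˣ) (t : F) : tor F τ σ * xx F 6 t = xx F 6 ((σ : F) * t) * tor F τ σ := by
  simpa using tor_mul τ σ (i := 0) (j := 1) (by norm_num) (by rw [cartan_facts.1.1]; norm_num)
    (by rw [cartan_facts.1.2]; norm_num) t

theorem tor_7 (τ σ : Fˣ) (t : F) : tor F τ σ * xx F 7 t = xx F 7 ((τ : F) * t) * tor F τ σ := by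
  simpa using tor_mul τ σ (i := 1) (j := 0) (by norm_num) (by rw [cartan_facts.2.1.1]; norm_num)
    (by rw [cartan_facts.2.1.2]; norm_num) t

theorem tor_8 (τ σ : Fˣ) (t : F) :
    tor F τ σ * xx F 8 t = xx F 8 ((τ : F) * σ * t) * tor F τ σ := by
  simpa using tor_mul τ σ (i := 1) (j := 1) (by norm_num) (by rw [cartan_facts.2.2.1.1]; norm_num)
    (by rw [cartan_facts.2.2.1.2]; norm_num) t

theorem tor_9 (τ σ : Fˣ) (t : F) :
    tor F τ σ * xx F 9 t = xx F 9 ((τ : F) ^ 2 * σ * t) * tor F τ σ := by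
  simpa using tor_mul τ σ (i := 2) (j := 1) (by norm_num) (by rw [cartan_facts.2.2.2.1.1]; norm_num)
    (by rw [cartan_facts.2.2.2.1.2]; norm_num) t

theorem tor_10 (τ σ : Fˣ) (t : F) :
    tor F τ σ * xx F 10 t = xx F 10 ((τ : F) ^ 3 * σ * t) * tor F τ σ := by
  simpa using tor_mul τ σ (i := 3) (j := 1) (by norm_num) (by rw [cartan_facts.2.2.2.2.1.1]; norm_num)
    (by rw [cartan_facts.2.2.2.2.1.2]; norm_num) t

theorem tor_11 (τ σ : Fˣ) (t : F) :
    tor F τ σ * xx F 11 t = xx F 11 ((τ : F) ^ 3 * (σ : F) ^ 2 * t) * tor F τ σ := by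
  simpa using tor_mul τ σ (i := 3) (j := 2) (by norm_num) (by rw [cartan_facts.2.2.2.2.2.1]; norm_num)
    (by rw [cartan_facts.2.2.2.2.2.2]; norm_num) t

theorem qel_tor (τ σ : Fˣ) (a b c d e : F) :
    tor F τ σ * qel a b c d e = qel ((σ : F) * a) ((τ : F) * σ * b) ((τ : F) ^ 2 * σ * c)
      ((τ : F) ^ 3 * σ * d) ((τ : F) ^ 3 * (σ : F) ^ 2 * e) * tor F τ σ := by
  simp only [qel, ← mul_assoc, tor_6]
  rw [mul_assoc (xx F 6 _) (tor F τ σ), tor_8]
  simp only [← mul_assoc]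
  rw [mul_assoc (xx F 6 _ * xx F 8 _) (tor F τ σ), tor_9]
  simp only [← mul_assoc]
  rw [mul_assoc (xx F 6 _ * xx F 8 _ * xx F 9 _) (tor F τ σ), tor_10]
  simp only [← mul_assoc]
  rw [mul_assoc (xx F 6 _ * xx F 8 _ * xx F 9 _ * xx F 10 _) (tor F τ σ), tor_11]
  simp only [← mul_assoc]

theorem qel_6 (v : F) : qel v 0 0 0 (0 : F) = xx F 6 v := by simp [qel, xx_zero]
theorem qel_8 (v : F) : qel 0 v 0 0 (0 : F) = xx F 8 v := by simp [qel, xx_zero]
theorem qel_9 (v : F) : qel 0 0 v 0 (0 : F) = xx F 9 v := by simp [qel, xx_zero]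
theorem qel_10 (v : F) : qel 0 0 0 v (0 : F) = xx F 10 v := by simp [qel, xx_zero]
theorem qel_11 (v : F) : qel 0 0 0 0 (v : F) = xx F 11 v := by simp [qel, xx_zero]

theorem qel_na (a b c d e : F) :
    na F * qel a b c d e = qel (-d) (-c) b a (e + a * d + 3 * b * c) * na F := by
  have h : na F * qel a b c d e =
      qel 0 0 0 a 0 * qel 0 0 b 0 0 * qel 0 (-c) 0 0 0 * qel (-d) 0 0 0 0 * qel 0 0 0 0 e * na F := by
    rw [qel_10, qel_9, qel_8, qel_6, qel_11]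
    simp only [qel, ← mul_assoc, na_6]
    rw [mul_assoc (xx F 10 a) (na F), na_8]
    simp only [← mul_assoc]
    rw [mul_assoc (xx F 10 a * xx F 9 b) (na F), na_9]
    simp only [← mul_assoc]
    rw [mul_assoc (xx F 10 a * xx F 9 b * xx F 8 (-c)) (na F), na_10]
    simp only [← mul_assoc]
    rw [mul_assoc (xx F 10 a * xx F 9 b * xx F 8 (-c) * xx F 6 (-d)) (na F), na_11]
    simp only [← mul_assoc]
  rw [h, qel_mul, qel_mul, qel_mul, qel_mul]
  congr 1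
  congr 1 <;> ring

theorem qel_x7 (u a b c d e : F) : ∃ e' : F,
    qel a b c d e * xx F 7 u = xx F 7 u * qel a (b + u * a) (c + 2 * u * b + u ^ 2 * a)
      (d - 3 * u * c - 3 * u ^ 2 * b - u ^ 3 * a) e' := by
  have h6 : xx F 6 a * xx F 7 u =
      xx F 7 u * qel a (u * a) (u ^ 2 * a) (-(u ^ 3 * a)) (-(u ^ 3 * a ^ 2)) := by
    rw [mul_6_7, qel]
    simp only [mul_assoc]
  have h8 : xx F 8 b * xx F 7 u =
      xx F 7 u * qel 0 b (2 * u * b) (-(3 * u ^ 2 * b)) (-(3 * u * b ^ 2)) := by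
    rw [mul_8_7, qel, xx_zero, one_mul]
    simp only [mul_assoc]
  have h9 : xx F 9 c * xx F 7 u = xx F 7 u * qel 0 0 c (-(3 * u * c)) 0 := by
    rw [mul_9_7, qel, xx_zero, xx_zero, xx_zero, one_mul, one_mul, mul_one, mul_assoc]
  have h10 : xx F 10 d * xx F 7 u = xx F 7 u * qel 0 0 0 d 0 := by
    rw [(comm_7_10 u d).eq, qel_10]
  have h11 : xx F 11 e * xx F 7 u = xx F 7 u * qel 0 0 0 0 e := by
    rw [(comm_7_11 u e).eq, qel_11]
  refine ⟨-(u ^ 3 * a ^ 2) + -(3 * u * b ^ 2) - -(u ^ 3 * a) * 0 - 3 * (u ^ 2 * a) * b + e, ?_⟩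
  calc qel a b c d e * xx F 7 u
      = xx F 6 a * (xx F 8 b * (xx F 9 c * (xx F 10 d * (xx F 11 e * xx F 7 u)))) := by
        simp only [qel, mul_assoc]
    _ = xx F 7 u * (qel a (u * a) (u ^ 2 * a) (-(u ^ 3 * a)) (-(u ^ 3 * a ^ 2)) *
          (qel 0 b (2 * u * b) (-(3 * u ^ 2 * b)) (-(3 * u * b ^ 2)) *
            (qel 0 0 c (-(3 * u * c)) 0 * (qel 0 0 0 d 0 * qel 0 0 0 0 e)))) := by
        rw [h11, ← mul_assoc (xx F 10 d), h10, mul_assoc, ← mul_assoc (xx F 9 c), h9, mul_assoc,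
          ← mul_assoc (xx F 8 b), h8, mul_assoc, ← mul_assoc (xx F 6 a), h6, mul_assoc]
    _ = _ := by
        rw [qel_mul, qel_mul, qel_mul, qel_mul]
        congr 1
        congr 1 <;> ring

theorem na_mem_NS : na F ∈ (RR F).NS := (RR F).ne_simple_mem_NS i0 one_ne_zero

theorem nb_mem_NS : nb F ∈ (RR F).NS := (RR F).ne_simple_mem_NS i1 one_ne_zero

theorem tor_mem_HS (τ σ : Fˣ) : tor F τ σ ∈ (RR F).HS :=
  mul_mem ((RR F).he_mem_HS i0 (Units.ne_zero _)) ((RR F).he_mem_HS i1 (Units.ne_zero _))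

end CfsgLib.G2Deg
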