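import Cfsg.Agent.Lib.Geo.G2MinDeg.FOneLevi
import Cfsg.Agent.Lib.Lie.Rel.HeckeCenter

/-!
# The trivial weight of the radical is not simple

Owner: helper23.
-/

set_option autoImplicit false

namespace CfsgLib.G2Deg

open Module CfsgLib.SLMinDeg CfsgLib.HallGen.ChevG2 CfsgLib.Lie.Chev CfsgLib.Lie.Exchange
open Cfsg.Lie (chevG2)

/-- The twelve words, last letter first. -/
def wd : Fin 12 → List (Fin 2) :=
  ![[], [0], [1], [0, 1], [1, 0], [0, 1, 0], [1, 0, 1], [0, 1, 0, 1], [1, 0, 1, 0],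
    [0, 1, 0, 1, 0], [1, 0, 1, 0, 1], [0, 1, 0, 1, 0, 1]]

/-- The permutation of a word. -/
def wpd : List (Fin 2) → Equiv.Perm Rt
  | [] => 1
  | s :: l => wpd l * w s

/-- Every step along `b` is positive. -/
def okw : List (Fin 2) → Bool
  | [] => true
  | s :: l => okw l && (s == 0 || decide (6 ≤ (wpd l (rt 6) : ℕ)))

theorem wd_facts :
    (∀ k, okw (wd k) = true) ∧
    (∀ k l, wpd (wd k) = wpd (wd l) → k = l) ∧
    (∀ s : Fin 2, ∀ k, ∃ l, w s * wpd (wd k) = wpd (wd l)) ∧
    (∀ k, (Finset.univ.filter fun r : Rt => 6 ≤ (r : ℕ) ∧ ¬ 6 ≤ (wpd (wd k) r : ℕ)).card =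
      (wd k).length) := by
  decide +kernel

theorem half_six : half chevG2 = 6 := by decide +kernel

theorem rank_two : chevG2.rank = 2 := rfl

variable (F : Type*) [Field F]

/-- The element of a word. -/
noncomputable def el : List (Fin 2) → (RR F).NS
  | [] => 1
  | s :: l => el l * (RR F).nS (Fin.cast rank_two.symm s)

variable {F}

theorem qact_el : ∀ l : List (Fin 2), (RR F).qact ((RR F).qmk (el F l)) = wpd l
  | [] => by simp only [el, map_one, wpd]
  | s :: l => by
    simp only [el, map_mul, qact_el l, wpd]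
    congr 1
    rw [(RR F).qact_qmk, (RR F).nsPerm_nS, wperm_eq]
    rfl

theorem exists_word_index (x : (RR F).WQ) : ∃ k, (RR F).qmk (el F (wd k)) = x := by
  obtain ⟨l, rfl⟩ := (RR F).qgen_genInv.gen x
  induction l with
  | nil => exact ⟨0, by simp [wd, el]⟩
  | cons s l ih =>
    obtain ⟨k, hk⟩ := ih
    obtain ⟨k', hk'⟩ := wd_facts.2.2.1 (Fin.cast rank_two s) k
    refine ⟨k', (RR F).qact_injective ?_⟩
    rw [qact_el, ← hk', wprod_cons, map_mul, ← hk, qact_el, (RR F).qact_qgen, wperm_eq]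
    rfl

theorem index_unique {k l : Fin 12} (h : (RR F).qmk (el F (wd k)) = (RR F).qmk (el F (wd l))) :
    k = l := wd_facts.2.1 k l (by rw [← qact_el (F := F), h, qact_el])

theorem el_length [Fintype F] (k : Fin 12) :
    wlen (RR F).qgen ((RR F).qmk (el F (wd k))) = (wd k).length := by
  rw [← (RR F).invN_eq_wlen, Rel.invN, ← wd_facts.2.2.2 k]
  congr 1
  refine Finset.filter_congr fun r _ => ?_
  rw [qact_el, half_six]

variable [Fintype F] {V : Type*} [AddCommGroup V] [Module ℂ V] [FiniteDimensional ℂ V]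
  {ρ : Representation ℂ (GG F) V} (hS : SmallOne ρ)
include hS

theorem pp_el : ∀ l : List (Fin 2), okw l = true →
    pp ρ (el F l : GG F) = pp ρ (nb F) ^ l.count 1
  | [], _ => by simp [el, pp_one hS]
  | s :: l, h => by
    simp only [okw, Bool.and_eq_true, Bool.or_eq_true, beq_iff_eq, decide_eq_true_eq] at h
    have ih := pp_el l h.1
    simp only [el, Subgroup.coe_mul]
    obtain rfl | rfl : s = 0 ∨ s = 1 := by omega
    · rw [show ((RR F).nS (Fin.cast rank_two.symm 0) : GG F) = na F from rfl,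
        pp_comm_right hS na_mem_commS, ih]
      simp
    · have h6 := h.2.resolve_left (by decide)
      have hg : ∀ t, (el F l : GG F) * xx F 6 t * (el F l : GG F)⁻¹ ∈ (RR F).UP := fun t => by
        obtain ⟨a, ha⟩ := (RR F).isMon_nsPerm (el F l)
        have h1 := (ha (rt 6)).2.2.2 t
        rw [show xx F 6 t = (RR F).xe (rt 6 : ℕ) t from rfl, h1, ← (RR F).qact_qmk, qact_el]
        exact (RR F).xe_mem_US (S := posSet chevG2) (r := wpd l (rt 6)) (show half chevG2 ≤ (wpd l (rt 6) : ℕ) by rw [half_six]; exact h6) _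
      rw [show ((RR F).nS (Fin.cast rank_two.symm 1) : GG F) = nb F from rfl, pp_mul_nb hS hg, ih]
      simp [pow_succ]

theorem pp_cell {k : Fin 12} {g : GG F} (hg : g ∈ (RR F).cl ((RR F).qmk (el F (wd k)))) :
    pp ρ g = pp ρ (nb F) ^ (wd k).count 1 := by
  obtain ⟨n, hn, b, hb, b', hb', rfl⟩ := (RR F).exists_of_mem_cl hg
  have hh : (n : GG F) * (el F (wd k) : GG F)⁻¹ ∈ (RR F).HS :=
    (RR F).qmk_eq_one (g := n * (el F (wd k))⁻¹) |>.1 (by rw [map_mul, map_inv, hn, mul_inv_cancel])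
  rw [pp_comm_right hS (BS_le_commS hS hb'), pp_comm_left hS (BS_le_commS hS hb),
    show (n : GG F) = (n : GG F) * (el F (wd k) : GG F)⁻¹ * el F (wd k) by group,
    pp_comm_left hS (HS_mem_commS hh), pp_el hS _ (wd_facts.1 k)]

theorem sum_pp [ρ.IsIrreducible] [Fintype (GG F)] :
    (finrank ℂ V : ℂ) * ∑ g, pp ρ g = (Fintype.card (GG F) : ℂ) := by
  obtain ⟨c, hc⟩ := CfsgLib.CharIntegral.exists_scalar_of_commute ρ
    (∑ g, ρ g * ee ρ * ρ g⁻¹) fun h => by
      rw [Finset.sum_mul, Finset.mul_sum]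
      refine (Fintype.sum_equiv (Equiv.mulLeft h) _ _ fun g => ?_).symm
      simp only [Equiv.coe_mulLeft, mul_inv_rev, map_mul, mul_assoc]
      rw [← map_mul ρ h⁻¹ h, inv_mul_cancel, map_one, mul_one]
  have htr : (Fintype.card (GG F) : ℂ) = c * finrank ℂ V := by
    have h := congrArg (LinearMap.trace ℂ V) hc
    rw [map_sum, map_smul, LinearMap.trace_id, smul_eq_mul,
      Finset.sum_congr rfl fun g _ => (show LinearMap.trace ℂ V (ρ g * ee ρ * ρ g⁻¹) = 1 by
        rw [LinearMap.trace_mul_comm, ← mul_assoc, ← map_mul, inv_mul_cancel, map_one, one_mul,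
          trace_ee hS]), Finset.sum_const, Finset.card_univ, nsmul_eq_mul, mul_one] at h
    exact h
  have hsum : ∑ g, pp ρ g = c := by
    have h := congrArg (fun A => LinearMap.trace ℂ V (ee ρ * A * ee ρ)) hc
    simp only [Finset.mul_sum, Finset.sum_mul, map_sum] at h
    have hterm : ∀ g, LinearMap.trace ℂ V (ee ρ * (ρ g * ee ρ * ρ g⁻¹) * ee ρ) = pp ρ g := fun g => by
      rw [show ee ρ * (ρ g * ee ρ * ρ g⁻¹) * ee ρ = ee ρ * ρ g * ee ρ * (ρ g⁻¹ * ee ρ) by
        simp only [mul_assoc], ee_sandwich hS, smul_mul_assoc, map_smul, smul_eq_mul, ← mul_assoc,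
        trace_sandwich hS]
      rfl
    rw [Finset.sum_congr rfl fun g _ => hterm g, ← Module.End.one_eq_id, mul_smul_comm, mul_one,
      smul_mul_assoc, map_smul, smul_eq_mul] at h
    rw [h, show ee ρ * ee ρ = ee ρ from avg_idem ρ (charOn_th 0 0 0 0), trace_ee hS, mul_one]
  rw [hsum, htr, mul_comm]

/-- The configuration does not occur. -/
theorem not_smallOne [ρ.IsIrreducible] : False := by
  classical
  haveI : Finite (GG F) := (chevRel certG2 F).Finite_of_field
  haveI := Fintype.ofFinite (GG F)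
  choose idx hidx using fun g : GG F => (RR F).exists_cl g
  choose num hnum using fun g : GG F => exists_word_index (idx g)
  have hmem : ∀ g k, num g = k ↔ g ∈ (RR F).cl ((RR F).qmk (el F (wd k))) := fun g k =>
    ⟨fun h => by subst h; rw [hnum g]; exact hidx g,
      fun h => index_unique ((hnum g).trans ((RR F).cl_inj (hidx g) h))⟩
  set β := pp ρ (nb F) with hβ
  set q : ℂ := (Fintype.card F : ℂ) with hq
  set B : ℂ := (Nat.card (RR F).BS : ℂ) with hB
  have hcard : ∀ k, ((Finset.univ.filter fun g => num g = k).card : ℂ) = B * q ^ (wd k).length := fun k => by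
    rw [Finset.filter_congr fun g _ => hmem g k, (RR F).card_cl, el_length, Nat.card_eq_fintype_card (α := F),
      Nat.cast_mul, Nat.cast_pow]
  have hG : (Fintype.card (GG F) : ℂ) = ∑ k, B * q ^ (wd k).length := by
    rw [← Finset.card_univ, ← Finset.sum_congr rfl fun k _ => hcard k, ← Nat.cast_sum,
      ← Finset.card_eq_sum_card_fiberwise (fun g _ => Finset.mem_univ (num g))]
  have hP : ∑ g, pp ρ g = ∑ k, B * q ^ (wd k).length * β ^ (wd k).count 1 := by
    rw [← Finset.sum_fiberwise Finset.univ num]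
    refine Finset.sum_congr rfl fun k _ => ?_
    rw [Finset.sum_congr rfl fun g hg => pp_cell hS ((hmem g k).1 (Finset.mem_filter.1 hg).2),
      Finset.sum_const, nsmul_eq_mul, hcard]
  have hd : (finrank ℂ V : ℂ) = q ^ 3 := by
    have := hS.small.dim
    rw [hS.one] at this
    rw [show finrank ℂ V = Fintype.card F ^ 3 by omega, Nat.cast_pow]
  have h := sum_pp hS
  rw [hP, hG, hd] at h
  simp [Fin.sum_univ_succ, wd] at h
  have hβ1 : q ^ 2 * β = 1 := pp_nb hS
  have hB0 : B ≠ 0 := Nat.cast_ne_zero.2 Nat.card_pos.ne'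
  have hq1 : (1 : ℂ) + q ≠ 0 := by
    rw [hq, ← Nat.cast_one, ← Nat.cast_add]
    exact Nat.cast_ne_zero.2 (by omega)
  have key : B * ((1 + q) ^ 2 * (q ^ 2 - 1) ^ 2) = 0 := by
    linear_combination -h + B * ((q ^ 2 + 2 * q ^ 3 + q ^ 4) * (q ^ 2 * β + 2) +
      (q ^ 2 + q ^ 3) * ((q ^ 2 * β) ^ 2 + q ^ 2 * β + 1)) * hβ1
  have h2 := (mul_eq_zero.1 key).resolve_left hB0
  have h3 := pow_eq_zero_iff two_ne_zero |>.1 ((mul_eq_zero.1 h2).resolve_left (pow_ne_zero 2 hq1))
  have h4 : ((Fintype.card F ^ 2 : ℕ) : ℂ) = ((1 : ℕ) : ℂ) := by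
    push_cast; linear_combination h3
  have h5 : 5 ^ 2 ≤ Fintype.card F ^ 2 := Nat.pow_le_pow_left hS.small.five 2
  have h6 : Fintype.card F ^ 2 = 1 := by exact_mod_cast h4
  omega

end CfsgLib.G2Deg
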