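import Cfsg.Agent.Lib.Geo.G2MinDeg.FZero
import Cfsg.Agent.Lib.Lie.Rel.BN

/-!
# A vector fixed by the maximal unipotent subgroup

Owner: helper23. In the configuration `Small` with a trivial weight of multiplicity one, the line `e`
of this weight gives the coefficients `cc g = ⟨e, g e⟩` and `pp g = cc g * cc g⁻¹`.
-/

set_option autoImplicit false

namespace CfsgLib.G2Deg

open Module CfsgLib.SLMinDeg CfsgLib.HallGen.ChevG2 CfsgLib.Lie.Chev
open Cfsg.Lie (chevG2)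

section Generic

variable {G : Type*} [Group G] {V : Type*} [AddCommGroup V] [Module ℂ V] [FiniteDimensional ℂ V]
  (ρ : Representation ℂ G V) {T : Type*} [Fintype T] [Nonempty T] {f : T → G} {θ : T → ℂ}

/-- An endomorphism compressed to a line. -/
theorem sandwich (h : CharOn f θ) (hr : finrank ℂ (LinearMap.range (avg ρ f θ)) = 1)
    (A : Module.End ℂ V) :
    avg ρ f θ * A * avg ρ f θ = LinearMap.trace ℂ V (A * avg ρ f θ) • avg ρ f θ := by
  obtain ⟨⟨v, hv⟩, hv0, hspan⟩ := finrank_eq_one_iff'.1 hr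
  obtain ⟨c, hc⟩ := hspan ⟨_, LinearMap.mem_range_self (avg ρ f θ) (A v)⟩
  have hc' : c • v = avg ρ f θ (A v) := congrArg Subtype.val hc
  have key : avg ρ f θ * A * avg ρ f θ = c • avg ρ f θ := LinearMap.ext fun x => by
    obtain ⟨a, ha⟩ := hspan ⟨_, LinearMap.mem_range_self (avg ρ f θ) x⟩
    have ha' : a • v = avg ρ f θ x := congrArg Subtype.val ha
    rw [Module.End.mul_apply, Module.End.mul_apply, LinearMap.smul_apply, ← ha', map_smul, map_smul,
      ← hc', smul_comm]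
  have ht := congrArg (LinearMap.trace ℂ V) key
  rw [map_smul, trace_avg ρ h, hr, Nat.cast_one, smul_eq_mul, mul_one,
    LinearMap.trace_mul_comm, ← mul_assoc, avg_idem ρ h, LinearMap.trace_mul_comm] at ht
  rw [key, ← ht]

end Generic

variable {F : Type*} [Field F] [Fintype F] {V : Type*} [AddCommGroup V] [Module ℂ V]
  (ρ : Representation ℂ (GG F) V)

/-- The projection to the trivial weight. -/
noncomputable def ee : Module.End ℂ V := E0 ρ 0 0 0 0

/-- The projection to the weights on the root `b` alone. -/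
noncomputable def PR : Module.End ℂ V := ∑ β, E0 ρ β 0 0 0

/-- The commutant of `ee`. -/
def commS : Subgroup (GG F) where
  carrier := {g | Commute (ρ g) (ee ρ)}
  mul_mem' {a b} ha hb := show Commute (ρ (a * b)) (ee ρ) by
    rw [map_mul]; exact Commute.mul_left ha hb
  one_mem' := show Commute (ρ 1) (ee ρ) by rw [map_one]; exact Commute.one_left _
  inv_mem' {a} (ha : Commute (ρ a) (ee ρ)) := show ρ a⁻¹ * ee ρ = ee ρ * ρ a⁻¹ by
    calc ρ a⁻¹ * ee ρ = ρ a⁻¹ * (ee ρ * ρ a) * ρ a⁻¹ := by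
          rw [mul_assoc, mul_assoc, ← map_mul, mul_inv_cancel, map_one, mul_one]
      _ = _ := by rw [← ha.eq, ← mul_assoc, ← map_mul, inv_mul_cancel, map_one, one_mul]

theorem mem_commS {g : GG F} : g ∈ commS ρ ↔ ρ g * ee ρ = ee ρ * ρ g := Iff.rfl

/-- The coefficient of the line. -/
noncomputable def cc (g : GG F) : ℂ := LinearMap.trace ℂ V (ρ g * ee ρ)

/-- The product of the opposite coefficients. -/
noncomputable def pp (g : GG F) : ℂ := cc ρ g * cc ρ g⁻¹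

theorem pp_inv (g : GG F) : pp ρ g⁻¹ = pp ρ g := by rw [pp, pp, inv_inv, mul_comm]

theorem PR_eq : PR ρ =
    FT (fun b => FT (fun c => FT (fun d => FT (fun z => ρ (qel 0 b c d z)) 0) 0) 0) (0 : F) := by
  simp only [PR, E0_eq, sum_FT]

theorem PR_mul_eq {A : Module.End ℂ V} (h : ∀ r ∈ [8, 9, 10, 11], ∀ t, ρ (xx F r t) * A = A) :
    PR ρ * A = A := by
  classical
  show LinearMap.mulRight ℂ A (PR ρ) = A
  rw [PR_eq]
  simp only [map_FT]
  simp only [LinearMap.mulRight_apply]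
  simp [qel, xx_zero, map_mul, mul_assoc, h, FT_const]

theorem mul_PR_eq {A : Module.End ℂ V} (h : ∀ r ∈ [8, 9, 10, 11], ∀ t, A * ρ (xx F r t) = A) :
    A * PR ρ = A := by
  classical
  show LinearMap.mulLeft ℂ A (PR ρ) = A
  rw [PR_eq]
  simp only [map_FT]
  simp only [LinearMap.mulLeft_apply]
  simp [qel, xx_zero, map_mul, ← mul_assoc, h, FT_const]

theorem x6_mul_E0 (t β : F) :
    ρ (xx F 6 t) * E0 ρ β 0 0 0 = chi0 F (β * t) • E0 ρ β 0 0 0 := by
  have := mul_avg ρ (charOn_th β 0 0 0) (t, 0, 0, 0, 0)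
  simpa [th, qf, qel_6, E0] using this

theorem E0_mul_x6 (t β : F) :
    E0 ρ β 0 0 0 * ρ (xx F 6 t) = chi0 F (β * t) • E0 ρ β 0 0 0 := by
  have := avg_mul ρ (charOn_th β 0 0 0) (t, 0, 0, 0, 0)
  simpa [th, qf, qel_6, E0] using this

theorem PR_comm_x6 (t : F) : ρ (xx F 6 t) * PR ρ = PR ρ * ρ (xx F 6 t) := by
  simp only [PR, Finset.mul_sum, Finset.sum_mul, x6_mul_E0, E0_mul_x6]

theorem exists_chi0_ne {β : F} (hβ : β ≠ 0) : ∃ t, chi0 F (β * t) ≠ 1 := by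
  by_contra h
  push Not at h
  exact hβ (chi0_nondeg h)

theorem mul_PR_of_x6 {A : Module.End ℂ V} (h : ∀ t, A * ρ (xx F 6 t) = A) :
    A * PR ρ = A * ee ρ := by
  classical
  rw [PR, Finset.mul_sum, Finset.sum_eq_single (0 : F) (fun β _ hβ => ?_) (by simp)]
  · rfl
  obtain ⟨t, ht⟩ := exists_chi0_ne hβ
  have h1 := congrArg (A * ·) (x6_mul_E0 ρ t β)
  simp only [← mul_assoc, h, mul_smul_comm] at h1
  have h2 : (1 - chi0 F (β * t)) • (A * E0 ρ β 0 0 0) = 0 := by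
    rw [sub_smul, one_smul, ← h1, sub_self]
  exact (smul_eq_zero.1 h2).resolve_left (sub_ne_zero.2 (Ne.symm ht))

theorem PR_mul_of_x6 {A : Module.End ℂ V} (h : ∀ t, ρ (xx F 6 t) * A = A) :
    PR ρ * A = ee ρ * A := by
  classical
  rw [PR, Finset.sum_mul, Finset.sum_eq_single (0 : F) (fun β _ hβ => ?_) (by simp)]
  · rfl
  obtain ⟨t, ht⟩ := exists_chi0_ne hβ
  have h1 := congrArg (· * A) (E0_mul_x6 ρ t β)
  simp only [mul_assoc, h, smul_mul_assoc] at h1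
  have h2 : (1 - chi0 F (β * t)) • (E0 ρ β 0 0 0 * A) = 0 := by
    rw [sub_smul, one_smul, ← h1, sub_self]
  exact (smul_eq_zero.1 h2).resolve_left (sub_ne_zero.2 (Ne.symm ht))

variable [FiniteDimensional ℂ V]

/-- The configuration treated here. -/
structure SmallOne : Prop where
  small : Small ρ
  one : N0 ρ 0 0 0 0 = 1

variable {ρ} (hS : SmallOne ρ)
include hS

theorem N0_line (β : F) : N0 ρ β 0 0 0 = 1 := by
  by_cases hβ : β = 0
  · subst hβ; exact hS.one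
  · exact hS.small.bot β hβ

theorem x7_fix (u β : F) :
    ρ (xx F 7 u) * E0 ρ β 0 0 0 = E0 ρ β 0 0 0 ∧ E0 ρ β 0 0 0 * ρ (xx F 7 u) = E0 ρ β 0 0 0 := by
  obtain ⟨c, hc, hc'⟩ := exists_scalar ρ (charOn_th β 0 0 0) (N0_line hS β) (xx F 7 u) (E0_x7_fix ρ u β)
  have ht := trace_x7_line ρ (exists_ne_zero_one (by have := hS.small.five; omega)) u β (N0_line hS β)
  have hc1 : c = 1 := hc'.symm.trans ht
  subst hc1
  rw [one_smul] at hc
  exact ⟨hc, (E0_x7_fix ρ u β).symm.trans hc⟩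

theorem pos_fix (β : F) : ∀ r ∈ [7, 8, 9, 10, 11], ∀ t,
    ρ (xx F r t) * E0 ρ β 0 0 0 = E0 ρ β 0 0 0 ∧ E0 ρ β 0 0 0 * ρ (xx F r t) = E0 ρ β 0 0 0 := by
  intro r hr t
  have hl := fun u : T5 F => mul_avg ρ (charOn_th β 0 0 0) u
  have hrr := fun u : T5 F => avg_mul ρ (charOn_th β 0 0 0) u
  simp only [List.mem_cons, List.not_mem_nil, or_false] at hr
  rcases hr with rfl | rfl | rfl | rfl | rfl
  · exact x7_fix hS t β
  · exact ⟨by simpa [th, qf, qel_8, E0] using hl (0, t, 0, 0, 0),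
      by simpa [th, qf, qel_8, E0] using hrr (0, t, 0, 0, 0)⟩
  · exact ⟨by simpa [th, qf, qel_9, E0] using hl (0, 0, t, 0, 0),
      by simpa [th, qf, qel_9, E0] using hrr (0, 0, t, 0, 0)⟩
  · exact ⟨by simpa [th, qf, qel_10, E0] using hl (0, 0, 0, t, 0),
      by simpa [th, qf, qel_10, E0] using hrr (0, 0, 0, t, 0)⟩
  · exact ⟨by simpa [th, qf, qel_11, E0] using hl (0, 0, 0, 0, t),
      by simpa [th, qf, qel_11, E0] using hrr (0, 0, 0, 0, t)⟩

theorem PR_fix : ∀ r ∈ [7, 8, 9, 10, 11], ∀ t,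
    ρ (xx F r t) * PR ρ = PR ρ ∧ PR ρ * ρ (xx F r t) = PR ρ := fun r hr t => by
  simp only [PR, Finset.mul_sum, Finset.sum_mul]
  exact ⟨Finset.sum_congr rfl fun β _ => (pos_fix hS β r hr t).1,
    Finset.sum_congr rfl fun β _ => (pos_fix hS β r hr t).2⟩

theorem PR_ee : PR ρ * ee ρ = ee ρ ∧ ee ρ * PR ρ = ee ρ :=
  ⟨PR_mul_eq ρ fun r hr t => (pos_fix hS 0 r (List.mem_cons_of_mem _ hr) t).1,
    mul_PR_eq ρ fun r hr t => (pos_fix hS 0 r (List.mem_cons_of_mem _ hr) t).2⟩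

theorem PR_nb : ρ (nb F) * PR ρ = PR ρ * ρ (nb F) := by
  have h := PR_fix hS
  have h1 : PR ρ * (ρ (nb F) * PR ρ) = ρ (nb F) * PR ρ := PR_mul_eq ρ fun r hr t => by
    simp only [List.mem_cons, List.not_mem_nil, or_false] at hr
    rw [← mul_assoc, ← map_mul]
    rcases hr with rfl | rfl | rfl | rfl
    · rw [← nb_7, map_mul, mul_assoc, (h 7 (by simp) t).1]
    · rw [← nb_9, map_mul, mul_assoc, (h 9 (by simp) t).1]
    · rw [show xx F 10 t * nb F = nb F * xx F 11 (-t) by rw [nb_11, neg_neg], map_mul, mul_assoc,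
        (h 11 (by simp) (-t)).1]
    · rw [← nb_10, map_mul, mul_assoc, (h 10 (by simp) t).1]
  have h2 : PR ρ * ρ (nb F) * PR ρ = PR ρ * ρ (nb F) := mul_PR_eq ρ fun r hr t => by
    simp only [List.mem_cons, List.not_mem_nil, or_false] at hr
    rw [mul_assoc, ← map_mul]
    rcases hr with rfl | rfl | rfl | rfl
    · rw [nb_8, map_mul, ← mul_assoc, (h 7 (by simp) _).2]
    · rw [nb_9, map_mul, ← mul_assoc, (h 9 (by simp) _).2]
    · rw [nb_10, map_mul, ← mul_assoc, (h 11 (by simp) _).2]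
    · rw [nb_11, map_mul, ← mul_assoc, (h 10 (by simp) _).2]
  rw [← h1, ← mul_assoc, h2]

theorem ee_sandwich (A : Module.End ℂ V) : ee ρ * A * ee ρ = LinearMap.trace ℂ V (A * ee ρ) • ee ρ :=
  sandwich ρ (charOn_th 0 0 0 0) hS.one A

theorem trace_ee : LinearMap.trace ℂ V (ee ρ) = 1 := by
  rw [ee, trace_E0, hS.one, Nat.cast_one]

theorem trace_sandwich (A : Module.End ℂ V) :
    LinearMap.trace ℂ V (ee ρ * A * ee ρ) = LinearMap.trace ℂ V (A * ee ρ) := by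
  rw [ee_sandwich hS, map_smul, trace_ee hS, smul_eq_mul, mul_one]

theorem pp_one : pp ρ 1 = 1 := by
  simp [pp, cc, trace_ee hS]

omit hS in
theorem ee_fix6 (hS : SmallOne ρ) (t : F) : ρ (xx F 6 t) * ee ρ = ee ρ ∧ ee ρ * ρ (xx F 6 t) = ee ρ := by
  constructor
  · simpa [ee] using x6_mul_E0 ρ t (0 : F)
  · simpa [ee] using E0_mul_x6 ρ t (0 : F)

theorem root_fix : ∀ r : Fin 12, 6 ≤ (r : ℕ) → ∀ t,
    ρ (xx F r t) * ee ρ = ee ρ ∧ ee ρ * ρ (xx F r t) = ee ρ := by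
  intro r hr t
  by_cases h6 : (r : ℕ) = 6
  · rw [h6]; exact ee_fix6 hS t
  · exact pos_fix hS 0 r (by
      have := r.2
      simp only [List.mem_cons, List.not_mem_nil, or_false]
      omega) t

/-- Elements fixing the line pointwise from both sides. -/
theorem UP_fix {g : GG F} (hg : g ∈ (RR F).UP) : ρ g * ee ρ = ee ρ ∧ ee ρ * ρ g = ee ρ := by
  induction hg using Subgroup.closure_induction with
  | mem x hx =>
    obtain ⟨r, hr, t, rfl⟩ := hx
    exact root_fix hS ⟨r, r.2⟩ (le_of_eq_of_le (by decide +kernel : 6 = half chevG2) hr) t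
  | one => simp
  | mul a b _ _ ha hb =>
    exact ⟨by rw [map_mul, mul_assoc, hb.1, ha.1], by rw [map_mul, ← mul_assoc, ha.2, hb.2]⟩
  | inv a _ ha =>
    refine ⟨?_, ?_⟩
    · conv_lhs => rw [← ha.1]
      rw [← mul_assoc, ← map_mul, inv_mul_cancel, map_one, one_mul]
    · conv_lhs => rw [← ha.2]
      rw [mul_assoc, ← map_mul, mul_inv_cancel, map_one, mul_one]

omit hS in
theorem HS_mem_commS {g : GG F} (hg : g ∈ (RR F).HS) : g ∈ commS ρ := by
  obtain ⟨a, ha, -⟩ := (RR F).exists_mat_HS hg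
  have hr : ∀ (r : ℕ) (hr : r < chevG2.nroots) (t : F),
      g * xx F r t = xx F r (a ⟨r, hr⟩ * t) * g := fun r hr t => by
    have := (ha ⟨r, hr⟩).2.2.2 t
    rw [Equiv.Perm.one_apply, mul_inv_eq_iff_eq_mul] at this
    exact this
  rw [mem_commS]
  refine E0_conj ρ g (fun t => (a (rt 6) * t.1, a (rt 8) * t.2.1, a (rt 9) * t.2.2.1,
    a (rt 10) * t.2.2.2.1, a (rt 11) * t.2.2.2.2)) (fun t => ?_) fun t => by simp [th]
  simp only [qf, qel, ← mul_assoc]
  rw [hr 6 (by decide)]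
  simp only [mul_assoc]
  congr 1
  rw [← mul_assoc g, hr 8 (by decide)]
  simp only [mul_assoc]
  congr 1
  rw [← mul_assoc g, hr 9 (by decide)]
  simp only [mul_assoc]
  congr 1
  rw [← mul_assoc g, hr 10 (by decide)]
  simp only [mul_assoc]
  congr 1
  exact hr 11 (by decide) _

theorem BS_le_commS : (RR F).BS ≤ commS ρ :=
  sup_le (fun g hg => ((UP_fix hS hg).1.trans (UP_fix hS hg).2.symm)) fun g hg => HS_mem_commS hg

omit hS in
theorem na_mem_commS : na F ∈ commS ρ := by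
  rw [mem_commS]
  simpa [ee] using E0_na ρ 0 0 0 (0 : F)

theorem pp_comm_left {b : GG F} (hb : b ∈ commS ρ) (g : GG F) : pp ρ (b * g) = pp ρ g := by
  have hbi : b⁻¹ ∈ commS ρ := inv_mem hb
  obtain ⟨x, hx, -⟩ := exists_scalar ρ (charOn_th 0 0 0 0) hS.one b hb
  obtain ⟨y, hy, -⟩ := exists_scalar ρ (charOn_th 0 0 0 0) hS.one b⁻¹ hbi
  have hx' : ρ b * ee ρ = x • ee ρ := hx
  have hy' : ρ b⁻¹ * ee ρ = y • ee ρ := hy
  have hxy : y * x = 1 := by
    have h : ρ b⁻¹ * (ρ b * ee ρ) = ee ρ := by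
      rw [← mul_assoc, ← map_mul, inv_mul_cancel, map_one, one_mul]
    rw [hx', mul_smul_comm, hy', smul_smul] at h
    have ht := congrArg (LinearMap.trace ℂ V) h
    rw [map_smul, trace_ee hS, smul_eq_mul, mul_one] at ht
    rw [mul_comm]; exact ht
  have h1 : cc ρ (b * g) = x * cc ρ g := by
    rw [cc, map_mul ρ, mul_assoc, LinearMap.trace_mul_comm, mul_assoc, ← (mem_commS ρ).1 hb, hx',
      mul_smul_comm, map_smul, smul_eq_mul, cc]
  have h2 : cc ρ (b * g)⁻¹ = y * cc ρ g⁻¹ := by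
    rw [mul_inv_rev, cc, map_mul ρ, mul_assoc, hy', mul_smul_comm, map_smul, smul_eq_mul, cc]
  rw [pp, h1, h2, pp]
  linear_combination cc ρ g * cc ρ g⁻¹ * hxy

theorem pp_comm_right {b : GG F} (hb : b ∈ commS ρ) (g : GG F) : pp ρ (g * b) = pp ρ g := by
  rw [← pp_inv, mul_inv_rev, pp_comm_left hS (inv_mem hb), pp_inv]

/-- The multiplicativity along a positive step. -/
theorem pp_mul_nb {g : GG F} (hg : ∀ t, g * xx F 6 t * g⁻¹ ∈ (RR F).UP) :
    pp ρ (g * nb F) = pp ρ g * pp ρ (nb F) := by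
  have hx : ∀ t, ee ρ * ρ g * ρ (xx F 6 t) = ee ρ * ρ g := fun t => by
    rw [mul_assoc, ← map_mul, show g * xx F 6 t = g * xx F 6 t * g⁻¹ * g by group, map_mul,
      ← mul_assoc, (UP_fix hS (hg t)).2]
  have hy : ∀ t, ρ (xx F 6 t) * (ρ g⁻¹ * ee ρ) = ρ g⁻¹ * ee ρ := fun t => by
    rw [← mul_assoc, ← map_mul, show xx F 6 t * g⁻¹ = g⁻¹ * (g * xx F 6 t * g⁻¹) by group, map_mul,
      mul_assoc, (UP_fix hS (hg t)).1]
  have e1 := mul_PR_of_x6 ρ hx
  have e2 := PR_mul_of_x6 ρ hy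
  have hnbi : ρ (nb F)⁻¹ * PR ρ = PR ρ * ρ (nb F)⁻¹ := by
    calc ρ (nb F)⁻¹ * PR ρ = ρ (nb F)⁻¹ * (PR ρ * ρ (nb F)) * ρ (nb F)⁻¹ := by
          rw [mul_assoc, mul_assoc, ← map_mul, mul_inv_cancel, map_one, mul_one]
      _ = _ := by rw [← PR_nb hS, ← mul_assoc, ← map_mul, inv_mul_cancel, map_one, one_mul]
  have h1 : ee ρ * ρ (g * nb F) * ee ρ = (ee ρ * ρ g * ee ρ) * (ρ (nb F) * ee ρ) := by
    calc ee ρ * ρ (g * nb F) * ee ρ = ee ρ * ρ g * (ρ (nb F) * (PR ρ * ee ρ)) := by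
          rw [map_mul, (PR_ee hS).1]; simp only [mul_assoc]
      _ = ee ρ * ρ g * PR ρ * (ρ (nb F) * ee ρ) := by
          rw [← mul_assoc (ρ (nb F)), PR_nb hS]; simp only [mul_assoc]
      _ = _ := by rw [e1]
  have h2 : ee ρ * ρ (g * nb F)⁻¹ * ee ρ = (ee ρ * ρ (nb F)⁻¹) * (ee ρ * ρ g⁻¹ * ee ρ) := by
    rw [mul_inv_rev]
    conv_lhs => rw [map_mul, ← mul_assoc, mul_assoc (ee ρ * ρ (nb F)⁻¹)]
    have h' : ee ρ * ρ (nb F)⁻¹ = ee ρ * ρ (nb F)⁻¹ * PR ρ := by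
      conv_rhs => rw [mul_assoc, hnbi, ← mul_assoc, (PR_ee hS).2]
    conv_lhs => rw [h']
    rw [mul_assoc (ee ρ * ρ (nb F)⁻¹), e2, mul_assoc (ee ρ) (ρ g⁻¹)]
  have c1 := congrArg (LinearMap.trace ℂ V) h1
  have c2 := congrArg (LinearMap.trace ℂ V) h2
  rw [trace_sandwich hS, ee_sandwich hS, smul_mul_assoc, map_smul, smul_eq_mul, ← mul_assoc,
    trace_sandwich hS] at c1
  rw [trace_sandwich hS, ee_sandwich hS, mul_smul_comm, map_smul, smul_eq_mul,
    trace_sandwich hS] at c2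
  have d1 : cc ρ (g * nb F) = cc ρ g * cc ρ (nb F) := c1
  have d2 : cc ρ (g * nb F)⁻¹ = cc ρ g⁻¹ * cc ρ (nb F)⁻¹ := c2
  rw [pp, pp, pp, d1, d2]
  ring

end CfsgLib.G2Deg
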