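import Cfsg.Agent.Lib.Geo.G2MinDeg.FOneBase

/-!
# The coefficient of the long simple reflection

Owner: helper23. On the `q`-dimensional space of invariants of the radical of the second parabolic the sum of
the conjugates of the line is a scalar, hence `pp (nb) = q⁻²`.
-/

set_option autoImplicit false

namespace CfsgLib.G2Deg

open Module CfsgLib.SLMinDeg CfsgLib.HallGen.ChevG2 CfsgLib.Lie.Chev
open Cfsg.Lie (chevG2)

section Conjugation

variable {G : Type*} [Group G] {V : Type*} [AddCommGroup V] [Module ℂ V]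
  (ρ : Representation ℂ G V)

/-- Conjugation of an endomorphism. -/
noncomputable def Cj (g : G) (A : Module.End ℂ V) : Module.End ℂ V := ρ g * A * ρ g⁻¹

theorem Cj_mul (g h : G) (A : Module.End ℂ V) : Cj ρ (g * h) A = Cj ρ g (Cj ρ h A) := by
  simp only [Cj, map_mul, mul_inv_rev, mul_assoc]

theorem Cj_one (A : Module.End ℂ V) : Cj ρ 1 A = A := by simp [Cj]

theorem Cj_map_mul (g : G) (A B : Module.End ℂ V) : Cj ρ g (A * B) = Cj ρ g A * Cj ρ g B := by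
  simp only [Cj, mul_assoc]
  rw [← mul_assoc (ρ g⁻¹) (ρ g), ← map_mul, inv_mul_cancel, map_one, one_mul]

theorem Cj_eq_self_iff (g : G) (A : Module.End ℂ V) : Cj ρ g A = A ↔ ρ g * A = A * ρ g := by
  constructor
  · intro h
    conv_rhs => rw [← h]
    rw [Cj, mul_assoc, ← map_mul, inv_mul_cancel, map_one, mul_one]
  · intro h
    rw [Cj, h, mul_assoc, ← map_mul, mul_inv_cancel, map_one, mul_one]

theorem trace_Cj (g : G) (A : Module.End ℂ V) :
    LinearMap.trace ℂ V (Cj ρ g A) = LinearMap.trace ℂ V A := by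
  rw [Cj, LinearMap.trace_mul_comm, ← mul_assoc, ← map_mul, inv_mul_cancel, map_one, one_mul]

end Conjugation

theorem simple_six : chevG2.simple 1 = 6 ∧ chevG2.neg 6 = 5 := by decide +kernel

theorem nb_mem_NS' {F : Type*} [Field F] : nb F ∈ (RR F).NS := nb_mem_NS

/-- The relation in the long root `SL(2)`. -/
theorem nb_x6_nb {F : Type*} [Field F] {t : F} (ht : t ≠ 0) :
    ∃ b ∈ (RR F).BS, nb F * xx F 6 t * nb F = xx F 6 (-t⁻¹) * nb F * b := by
  have hne : xx F 5 (-t) = xx F 6 (-t⁻¹) * (RR F).ne 6 t⁻¹ * xx F 6 (-t⁻¹) := by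
    show _ = xx F 6 (-t⁻¹) * neOf chevG2 (RR F).xe 6 t⁻¹ * xx F 6 (-t⁻¹)
    simp only [neOf, simple_six.2, xx, inv_inv, (RR F).xe_neg, mul_assoc, mul_inv_cancel, mul_one]
    group
  have hn : (RR F).ne 6 t⁻¹ = (RR F).he 6 t⁻¹ * nb F := by
    rw [(RR F).ne_eq_he_mul, nb, simple_six.1]
  have hh : (RR F).he 6 t⁻¹ ∈ (RR F).HS := by
    have := (RR F).he_mem_HS i1 (inv_ne_zero ht)
    rwa [show chevG2.simple (i1 : Fin chevG2.rank) = 6 from simple_six.1] at this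
  have hh' : (nb F)⁻¹ * (RR F).he 6 t⁻¹ * nb F ∈ (RR F).HS := by
    have := (RR F).HS_conj (inv_mem nb_mem_NS') hh
    rwa [inv_inv] at this
  have h2 : nb F * nb F ∈ (RR F).HS := by
    have := (RR F).nS_mul_self_mem i1
    exact this
  refine ⟨(nb F)⁻¹ * (RR F).he 6 t⁻¹ * nb F * xx F 6 (-t⁻¹) * (nb F * nb F),
    mul_mem (mul_mem ((RR F).HS_le_BS hh')
      ((RR F).xe_pos_mem_BS (r := rt 6) (le_of_eq (by decide +kernel : half chevG2 = 6)) _))
      ((RR F).HS_le_BS h2), ?_⟩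
  rw [nb_6, hne, hn]
  group

variable {F : Type*} [Field F] [Fintype F] {V : Type*} [AddCommGroup V] [Module ℂ V]
  (ρ : Representation ℂ (GG F) V)

/-- The sum of the conjugates of the line in the second Levi subgroup. -/
noncomputable def MM : Module.End ℂ V := ee ρ + ∑ t, Cj ρ (xx F 6 t * nb F) (ee ρ)

variable [FiniteDimensional ℂ V] {ρ} (hS : SmallOne ρ)
include hS

theorem Cj_BS {b : GG F} (hb : b ∈ (RR F).BS) : Cj ρ b (ee ρ) = ee ρ :=
  (Cj_eq_self_iff ρ _ _).2 ((mem_commS ρ).1 (BS_le_commS hS hb))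

theorem MM_x6 (s : F) : Cj ρ (xx F 6 s) (MM ρ) = MM ρ := by
  have h : Cj ρ (xx F 6 s) (ee ρ) = ee ρ :=
    (Cj_eq_self_iff ρ _ _).2 ((ee_fix6 hS s).1.trans (ee_fix6 hS s).2.symm)
  simp only [MM, Cj, mul_add, add_mul, Finset.mul_sum, Finset.sum_mul]
  simp only [← Cj.eq_def, h, ← Cj_mul, ← mul_assoc, xx_add]
  congr 1
  exact Fintype.sum_equiv (Equiv.addLeft s) _ _ fun t => rfl

theorem MM_HS {h : GG F} (hh : h ∈ (RR F).HS) : Cj ρ h (MM ρ) = MM ρ := by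
  obtain ⟨a, ha, -⟩ := (RR F).exists_mat_HS hh
  have he : Cj ρ h (ee ρ) = ee ρ := Cj_BS hS ((RR F).HS_le_BS hh)
  simp only [MM, Cj, mul_add, add_mul, Finset.mul_sum, Finset.sum_mul]
  simp only [← Cj.eq_def, he, ← Cj_mul]
  congr 1
  refine Fintype.sum_equiv (Equiv.mulLeft₀ (a (rt 6)) (ha (rt 6)).1) _ _ fun t => ?_
  have h6 : h * xx F 6 t = xx F 6 (a (rt 6) * t) * h := by
    have := (ha (rt 6)).2.2.2 t
    rw [Equiv.Perm.one_apply, mul_inv_eq_iff_eq_mul] at this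
    exact this
  have hh' : (nb F)⁻¹ * h * nb F ∈ (RR F).BS := by
    have := (RR F).HS_conj (inv_mem nb_mem_NS') hh
    rw [inv_inv] at this
    exact (RR F).HS_le_BS this
  rw [show h * (xx F 6 t * nb F) = xx F 6 (a (rt 6) * t) * nb F * ((nb F)⁻¹ * h * nb F) by
    rw [← mul_assoc h, h6]; group, Cj_mul ρ _ ((nb F)⁻¹ * h * nb F), Cj_BS hS hh']
  rfl

theorem MM_nb : Cj ρ (nb F) (MM ρ) = MM ρ := by
  classical
  have h2 : nb F * nb F ∈ (RR F).BS := (RR F).HS_le_BS ((RR F).nS_mul_self_mem i1)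
  have key : ∀ t, t ≠ 0 → Cj ρ (nb F) (Cj ρ (xx F 6 t * nb F) (ee ρ)) =
      Cj ρ (xx F 6 (-t⁻¹) * nb F) (ee ρ) := fun t ht => by
    obtain ⟨b, hb, he⟩ := nb_x6_nb ht
    rw [← Cj_mul, ← mul_assoc, he, Cj_mul ρ _ b, Cj_BS hS hb]
  have hsplit : MM ρ = (ee ρ + Cj ρ (nb F) (ee ρ)) +
      ∑ t ∈ Finset.univ.erase (0 : F), Cj ρ (xx F 6 t * nb F) (ee ρ) := by
    rw [MM, ← Finset.add_sum_erase _ _ (Finset.mem_univ (0 : F)), xx_zero, one_mul, add_assoc]
  conv_lhs => rw [hsplit]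
  rw [hsplit]
  simp only [Cj, mul_add, add_mul, Finset.mul_sum, Finset.sum_mul]
  simp only [← Cj.eq_def, ← Cj_mul, Cj_BS hS h2]
  rw [add_comm (Cj ρ (nb F) (ee ρ))]
  congr 1
  refine Finset.sum_bij' (fun t _ => -t⁻¹) (fun t _ => -t⁻¹) ?_ ?_ ?_ ?_ fun t ht => ?_
  · intro t ht; simpa using Finset.ne_of_mem_erase ht
  · intro t ht; simpa using Finset.ne_of_mem_erase ht
  · intro t _; simp [inv_neg]
  · intro t _; simp [inv_neg]
  · rw [Cj_mul, key t (Finset.ne_of_mem_erase ht)]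

theorem PR_MM : PR ρ * MM ρ = MM ρ ∧ MM ρ * PR ρ = MM ρ := by
  have hc : ∀ t, Cj ρ (xx F 6 t * nb F) (PR ρ) = PR ρ := fun t => by
    rw [Cj_mul, (Cj_eq_self_iff ρ (nb F) _).2 (PR_nb hS), (Cj_eq_self_iff ρ _ _).2 (PR_comm_x6 ρ t)]
  constructor
  · simp only [MM, mul_add, Finset.mul_sum, (PR_ee hS).1]
    congr 1
    refine Finset.sum_congr rfl fun t _ => ?_
    conv_lhs => arg 1; rw [← hc t]
    rw [← Cj_map_mul, (PR_ee hS).1]
  · simp only [MM, add_mul, Finset.sum_mul, (PR_ee hS).2]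
    congr 1
    refine Finset.sum_congr rfl fun t _ => ?_
    conv_lhs => arg 2; rw [← hc t]
    rw [← Cj_map_mul, (PR_ee hS).2]

theorem E0_MM_E0 {β γ : F} (h : β ≠ γ) : E0 ρ β 0 0 0 * MM ρ * E0 ρ γ 0 0 0 = 0 := by
  obtain ⟨t, ht⟩ := exists_chi0_ne (sub_ne_zero.2 h)
  have hM := (Cj_eq_self_iff ρ _ _).1 (MM_x6 hS t)
  have e1 : E0 ρ β 0 0 0 * ρ (xx F 6 t) * MM ρ * E0 ρ γ 0 0 0 =
      E0 ρ β 0 0 0 * MM ρ * (ρ (xx F 6 t) * E0 ρ γ 0 0 0) := by
    rw [mul_assoc (E0 ρ β 0 0 0), hM]; simp only [mul_assoc]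
  rw [E0_mul_x6, x6_mul_E0, smul_mul_assoc, smul_mul_assoc, mul_smul_comm] at e1
  have h2 : (chi0 F (β * t) - chi0 F (γ * t)) • (E0 ρ β 0 0 0 * MM ρ * E0 ρ γ 0 0 0) = 0 := by
    rw [sub_smul, e1, sub_self]
  refine (smul_eq_zero.1 h2).resolve_left (sub_ne_zero.2 fun e => ht ?_)
  rw [sub_mul, sub_eq_add_neg, AddChar.map_add_eq_mul, chi0_neg, e, mul_inv_cancel₀ (chi0_ne _)]

theorem MM_decomp :
    MM ρ = ∑ β, LinearMap.trace ℂ V (MM ρ * E0 ρ β 0 0 0) • E0 ρ β 0 0 0 := by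
  conv_lhs => rw [← (PR_MM hS).2, ← (PR_MM hS).1]
  simp only [PR, Finset.sum_mul, Finset.mul_sum]
  refine Finset.sum_congr rfl fun β _ => ?_
  rw [Finset.sum_eq_single β (fun γ _ hγ => E0_MM_E0 hS hγ) (by simp)]
  exact sandwich ρ (charOn_th β 0 0 0) (N0_line hS β) (MM ρ)

theorem trace_MM : LinearMap.trace ℂ V (MM ρ) = (Fintype.card F : ℂ) + 1 := by
  simp only [MM, map_add, map_sum, trace_Cj, trace_ee hS, Finset.sum_const, Finset.card_univ,
    nsmul_eq_mul, mul_one]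
  ring

theorem trace_MM_ee : LinearMap.trace ℂ V (MM ρ * ee ρ) = 1 + (Fintype.card F : ℂ) * pp ρ (nb F) := by
  have h1 : ∀ t, LinearMap.trace ℂ V (Cj ρ (xx F 6 t * nb F) (ee ρ) * ee ρ) = pp ρ (nb F) := fun t => by
    have h6 : xx F 6 t ∈ commS ρ := (ee_fix6 hS t).1.trans (ee_fix6 hS t).2.symm
    rw [← pp_comm_left hS h6 (nb F), ← trace_sandwich hS]
    generalize xx F 6 t * nb F = g
    rw [show ee ρ * Cj ρ g (ee ρ) * ee ρ = ee ρ * ρ g * ee ρ * (ρ g⁻¹ * ee ρ) by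
      simp only [Cj, mul_assoc], ee_sandwich hS, smul_mul_assoc, map_smul, smul_eq_mul, ← mul_assoc,
      trace_sandwich hS]
    rfl
  have he : ee ρ * ee ρ = ee ρ := avg_idem ρ (charOn_th 0 0 0 0)
  simp only [MM, add_mul, Finset.sum_mul, map_add, map_sum, h1, he, trace_ee hS, Finset.sum_const,
    Finset.card_univ, nsmul_eq_mul]

theorem commS_eq_top (hnb : nb F ∈ commS ρ) : commS ρ = ⊤ := by
  have hNw : (RR F).Nw ≤ commS ρ := by
    refine (Subgroup.closure_le _).2 ?_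
    rintro _ ⟨⟨i, hi⟩, rfl⟩
    have : i < 2 := hi
    obtain rfl | rfl : i = 0 ∨ i = 1 := by omega
    · exact na_mem_commS
    · exact hnb
  refine top_unique ?_
  rw [← (RR F).BS_sup_NS]
  exact sup_le (BS_le_commS hS) (sup_le (fun g hg => HS_mem_commS hg) hNw)

theorem nb_not_commS [ρ.IsIrreducible] : nb F ∉ commS ρ := by
  intro hnb
  obtain ⟨c, hc⟩ := CfsgLib.CharIntegral.exists_scalar_of_commute ρ (ee ρ) fun g =>
    ((mem_commS ρ).1 (show g ∈ commS ρ by rw [commS_eq_top hS hnb]; exact Subgroup.mem_top g)).symm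
  have he : ee ρ * ee ρ = ee ρ := avg_idem ρ (charOn_th 0 0 0 0)
  have ht := trace_ee hS
  have hd := hS.small.dim
  rw [hS.one] at hd
  have hid : ∀ v, ee ρ v = c • v := fun v => by rw [hc]; rfl
  have he0 : ee ρ = c • (1 : Module.End ℂ V) := LinearMap.ext fun v => hid v
  rw [he0, map_smul, Module.End.one_eq_id, LinearMap.trace_id, smul_eq_mul] at ht
  have hcne : c ≠ 0 := left_ne_zero_of_mul_eq_one ht
  rw [he0, smul_mul_smul_comm, one_mul] at he
  have h2 := congrArg (LinearMap.trace ℂ V) he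
  rw [map_smul, map_smul, Module.End.one_eq_id, LinearMap.trace_id, smul_eq_mul, smul_eq_mul, mul_assoc,
    ht, mul_one] at h2
  rw [h2, one_mul] at ht
  have hdim : finrank ℂ V = 1 := by exact_mod_cast ht
  have h5 := hS.small.five
  rw [hdim] at hd
  have : 5 ^ 3 ≤ Fintype.card F ^ 3 := Nat.pow_le_pow_left h5 3
  omega

theorem pp_nb [ρ.IsIrreducible] : (Fintype.card F : ℂ) ^ 2 * pp ρ (nb F) = 1 := by
  classical
  set q : ℂ := (Fintype.card F : ℂ) with hq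
  let μ : F → ℂ := fun β => LinearMap.trace ℂ V (MM ρ * E0 ρ β 0 0 0)
  have hμ : ∀ β, β ≠ 0 → μ β = μ 1 := fun β hβ => by
    have hE : Cj ρ (tor F 1 (Units.mk0 β hβ)) (E0 ρ β 0 0 0) = E0 ρ 1 0 0 0 := by
      have h := E0_tor ρ 1 (Units.mk0 β hβ) 1 0 0 0
      simp only [Units.val_mk0, mul_one, mul_zero] at h
      rw [Cj, h, mul_assoc, ← map_mul, mul_inv_cancel, map_one, mul_one]
    show LinearMap.trace ℂ V _ = LinearMap.trace ℂ V _
    rw [← trace_Cj ρ (tor F 1 (Units.mk0 β hβ)) (MM ρ * E0 ρ β 0 0 0), Cj_map_mul, hE,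
      MM_HS hS (tor_mem_HS _ _)]
  have h0 : μ 0 = 1 + q * pp ρ (nb F) := trace_MM_ee hS
  have htr : μ 0 + (q - 1) * μ 1 = q + 1 := by
    rw [← trace_MM hS]
    conv_rhs => rw [MM_decomp hS]
    simp only [map_sum, map_smul, trace_E0, N0_line hS, Nat.cast_one, smul_eq_mul, mul_one]
    rw [← Finset.add_sum_erase _ _ (Finset.mem_univ (0 : F)),
      Finset.sum_congr rfl fun β hβ => hμ β (Finset.ne_of_mem_erase hβ), Finset.sum_const,
      Finset.card_erase_of_mem (Finset.mem_univ _), Finset.card_univ, nsmul_eq_mul,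
      Nat.cast_sub (Nat.one_le_iff_ne_zero.2 Fintype.card_ne_zero), Nat.cast_one]
  by_cases heq : μ 1 = μ 0
  · rw [heq, h0] at htr
    linear_combination htr
  exfalso
  refine nb_not_commS hS ?_
  have hM : MM ρ = (μ 0 - μ 1) • ee ρ + μ 1 • PR ρ := by
    conv_lhs => rw [MM_decomp hS]
    rw [PR, ee, Finset.smul_sum, ← Finset.add_sum_erase _ _ (Finset.mem_univ (0 : F)),
      ← Finset.add_sum_erase (Finset.univ : Finset F) (fun β => μ 1 • E0 ρ β 0 0 0)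
        (Finset.mem_univ (0 : F)), ← add_assoc, ← add_smul, sub_add_cancel]
    congr 1
    exact Finset.sum_congr rfl fun β hβ => by rw [← hμ β (Finset.ne_of_mem_erase hβ)]
  have h1 : Commute (ρ (nb F)) (MM ρ) := (Cj_eq_self_iff ρ _ _).1 (MM_nb hS)
  have h2 : Commute (ρ (nb F)) (μ 1 • PR ρ) := (show Commute (ρ (nb F)) (PR ρ) from PR_nb hS).smul_right _
  have h3 := h1.sub_right h2
  rw [hM, add_sub_cancel_right] at h3
  have h4 := h3.smul_right (μ 0 - μ 1)⁻¹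
  rw [inv_smul_smul₀ (sub_ne_zero.2 (Ne.symm heq))] at h4
  exact h4

end CfsgLib.G2Deg
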