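import Cfsg.Agent.Lib.Geo.G2MinDeg.ThreeAux

/-!
# Characteristic three: the invariants of the short root

Owner: helper23.
-/

set_option autoImplicit false

namespace CfsgLib.G2Deg

open Module CfsgLib.SLMinDeg CfsgLib.HallGen.ChevG2

variable {F : Type*} [Field F] [Fintype F] {V : Type*} [AddCommGroup V] [Module ℂ V]
  (ρ : Representation ℂ (GG F) V)

theorem th_inj {w₁ w₂ w₃ w₄ v₁ v₂ v₃ v₄ : F} (h : th w₁ w₂ w₃ w₄ = th v₁ v₂ v₃ v₄) :
    w₁ = v₁ ∧ w₂ = v₂ ∧ w₃ = v₃ ∧ w₄ = v₄ := by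
  have hgen : ∀ t : T5 F, chi0 F ((w₁ - v₁) * t.1 + (w₂ - v₂) * t.2.1 + (w₃ - v₃) * t.2.2.1 +
      (w₄ - v₄) * t.2.2.2.1) = 1 := fun t => by
    have h1 := congrFun h t
    simp only [th] at h1
    have e := AddChar.map_add_eq_mul (chi0 F) ((w₁ - v₁) * t.1 + (w₂ - v₂) * t.2.1 +
      (w₃ - v₃) * t.2.2.1 + (w₄ - v₄) * t.2.2.2.1)
      (v₁ * t.1 + v₂ * t.2.1 + v₃ * t.2.2.1 + v₄ * t.2.2.2.1)
    rw [← h1] at e
    ring_nf at e ⊢
    exact (mul_eq_right₀ (chi0_ne _)).1 e.symm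
  exact ⟨sub_eq_zero.1 (chi0_nondeg fun t => by simpa using hgen (t, 0, 0, 0, 0)),
    sub_eq_zero.1 (chi0_nondeg fun t => by simpa using hgen (0, t, 0, 0, 0)),
    sub_eq_zero.1 (chi0_nondeg fun t => by simpa using hgen (0, 0, t, 0, 0)),
    sub_eq_zero.1 (chi0_nondeg fun t => by simpa using hgen (0, 0, 0, t, 0))⟩

theorem x7_qf (u : F) (t : T5 F) : ∃ e : F, xx F 7 u * qf t =
    qf (t.1, t.2.1 + -u * t.1, t.2.2.1 + 2 * -u * t.2.1 + (-u) ^ 2 * t.1,
      t.2.2.2.1 - 3 * -u * t.2.2.1 - 3 * (-u) ^ 2 * t.2.1 - (-u) ^ 3 * t.1, e) * xx F 7 u := by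
  obtain ⟨e, he⟩ := qel_x7 (-u) t.1 t.2.1 t.2.2.1 t.2.2.2.1 t.2.2.2.2
  refine ⟨e, ?_⟩
  rw [xx_neg] at he
  have := congrArg (fun y => xx F 7 u * y * xx F 7 u) he
  simpa [qf, mul_assoc] using this

theorem E0_x7 (u w₁ w₂ w₃ w₄ : F) : ρ (xx F 7 u) * E0 ρ w₁ w₂ w₃ w₄ =
    E0 ρ (w₁ + u * w₂ + u ^ 2 * w₃ - u ^ 3 * w₄) (w₂ + 2 * u * w₃ - 3 * u ^ 2 * w₄)
      (w₃ - 3 * u * w₄) w₄ * ρ (xx F 7 u) := by
  choose e he using fun t : T5 F => x7_qf u t
  refine E0_conj ρ (xx F 7 u) _ he fun t => ?_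
  simp only [th]
  congr 1
  ring

theorem E0_x7_fix (u β : F) :
    ρ (xx F 7 u) * E0 ρ β 0 0 0 = E0 ρ β 0 0 0 * ρ (xx F 7 u) := by
  have := E0_x7 ρ u β 0 0 0
  simpa using this

variable [FiniteDimensional ℂ V]

theorem trace_x7_moved (u w₁ w₂ w₃ w₄ : F)
    (hne : ¬ (u * w₂ + u ^ 2 * w₃ - u ^ 3 * w₄ = 0 ∧ 2 * u * w₃ - 3 * u ^ 2 * w₄ = 0 ∧
      3 * u * w₄ = 0)) :
    LinearMap.trace ℂ V (ρ (xx F 7 u) * E0 ρ w₁ w₂ w₃ w₄) = 0 := by
  refine trace_mul_avg_eq_zero ρ (charOn_th _ _ _ _) (charOn_th _ _ _ _) (fun h => hne ?_) _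
    (E0_x7 ρ u w₁ w₂ w₃ w₄)
  obtain ⟨h1, h2, h3, -⟩ := th_inj h
  exact ⟨by linear_combination -h1, by linear_combination -h2, by linear_combination h3⟩

/-- A torus invariant character of the short root is trivial on a weight of rank one. -/
theorem trace_x7_line (hτ : ∃ a : F, a ≠ 0 ∧ a ≠ 1) (u β : F) (hr : N0 ρ β 0 0 0 = 1) :
    LinearMap.trace ℂ V (ρ (xx F 7 u) * E0 ρ β 0 0 0) = 1 := by
  let χ : F → ℂ := fun u => LinearMap.trace ℂ V (ρ (xx F 7 u) * E0 ρ β 0 0 0)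
  have hsc : ∀ u, ρ (xx F 7 u) * E0 ρ β 0 0 0 = χ u • E0 ρ β 0 0 0 := fun u => by
    obtain ⟨c, hc, hc'⟩ := exists_scalar ρ (charOn_th β 0 0 0) hr (xx F 7 u) (E0_x7_fix ρ u β)
    show _ = LinearMap.trace ℂ V _ • _
    rw [show LinearMap.trace ℂ V (ρ (xx F 7 u) * E0 ρ β 0 0 0) = c from hc']
    exact hc
  have h0 : χ 0 = 1 := by
    show LinearMap.trace ℂ V (ρ (xx F 7 0) * E0 ρ β 0 0 0) = 1
    rw [xx_zero, map_one, one_mul, trace_E0, hr, Nat.cast_one]
  have hmul : ∀ a b, χ (a + b) = χ b * χ a := fun a b => by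
    show LinearMap.trace ℂ V (ρ (xx F 7 (a + b)) * E0 ρ β 0 0 0) = _
    rw [← xx_add, map_mul ρ, mul_assoc, hsc b, mul_smul_comm, hsc a, smul_smul, map_smul, trace_E0,
      hr, Nat.cast_one, smul_eq_mul, mul_one]
  have htor : ∀ (τ : Fˣ) (v : F), χ ((τ : F) * v) = χ v := fun τ v => by
    have hE : ρ (tor F τ 1) * E0 ρ β 0 0 0 = E0 ρ β 0 0 0 * ρ (tor F τ 1) :=
      E0_conj ρ (tor F τ 1) (fun t => (((1 : Fˣ) : F) * t.1, (τ : F) * (1 : Fˣ) * t.2.1,
        (τ : F) ^ 2 * (1 : Fˣ) * t.2.2.1, (τ : F) ^ 3 * (1 : Fˣ) * t.2.2.2.1,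
        (τ : F) ^ 3 * ((1 : Fˣ) : F) ^ 2 * t.2.2.2.2)) (fun t => qel_tor τ 1 _ _ _ _ _)
        fun t => by simp [th]
    have h7 : ρ (xx F 7 ((τ : F) * v)) * E0 ρ β 0 0 0 =
        ρ (tor F τ 1) * (ρ (xx F 7 v) * E0 ρ β 0 0 0) * ρ (tor F τ 1)⁻¹ := by
      rw [← mul_assoc, ← map_mul, tor_7, map_mul, mul_assoc (ρ (xx F 7 _)), hE, mul_assoc,
        mul_assoc, ← map_mul, mul_inv_cancel, map_one, mul_one]
    show LinearMap.trace ℂ V _ = LinearMap.trace ℂ V _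
    rw [h7, LinearMap.trace_mul_comm, ← mul_assoc, ← map_mul, inv_mul_cancel, map_one, one_mul]
  obtain ⟨a, ha0, ha1⟩ := hτ
  set v : F := u / (a - 1) with hv
  have hsub : a - 1 ≠ 0 := sub_ne_zero.2 ha1
  have h22 := htor (Units.mk0 a ha0) v
  rw [Units.val_mk0, show a * v = u + v by rw [hv]; field_simp; ring, hmul] at h22
  have hne : χ v ≠ 0 := fun h => by
    have := hmul (-v) v
    rw [neg_add_cancel, h0, h, zero_mul] at this
    exact one_ne_zero this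
  exact mul_left_cancel₀ hne (h22.trans (mul_one _).symm)

/-- The short root times the radical. -/
noncomputable def g5 (p : F × T5 F) : GG F := qf p.2 * xx F 7 p.1

theorem charOn_g5 (α : F) : CharOn (g5 (F := F)) (fun p => chi0 F (α * p.1)) where
  inj := by
    rintro ⟨u, t⟩ ⟨u', t'⟩ h
    have hx : qf t * xx F 7 (u - u') = qf t' := by
      simp only [g5] at h
      rw [sub_eq_add_neg, ← xx_add, ← mul_assoc, h, mul_assoc, xx_add, add_neg_cancel, xx_zero, mul_one]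
    obtain ⟨a, b, c, d, e⟩ := t
    obtain ⟨a', b', c', d', e'⟩ := t'
    simp only [qf] at hx
    have h2 : qel a b c d e * qel (a' - a) (b' - b) (c' - c) (d' - d)
        (e' - e + d * (a' - a) + 3 * c * (b' - b)) = qel a' b' c' d' e' := by
      rw [qel_mul]; congr 1 <;> ring
    have h3 := mul_left_cancel (hx.trans h2.symm)
    rw [qel_eq_uel, show xx F 7 (u - u') = uel 0 (u - u') 0 0 0 0 by simp [uel, xx_zero]] at h3
    have huu : u = u' := sub_eq_zero.1 (uel_inj h3).2.1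
    subst huu
    rw [sub_self, xx_zero, mul_one] at hx
    obtain ⟨g1, g2, g3, g4, g5⟩ := qel_inj hx
    subst g1; subst g2; subst g3; subst g4; subst g5
    rfl
  ne _ := chi0_ne _
  mul p q := by
    obtain ⟨e, he⟩ := x7_qf p.1 q.2
    obtain ⟨v, hv, -⟩ := (charOn_th (0 : F) 0 0 0).mul p.2
      (q.2.1, q.2.2.1 + -p.1 * q.2.1, q.2.2.2.1 + 2 * -p.1 * q.2.2.1 + (-p.1) ^ 2 * q.2.1,
        q.2.2.2.2.1 - 3 * -p.1 * q.2.2.2.1 - 3 * (-p.1) ^ 2 * q.2.2.1 - (-p.1) ^ 3 * q.2.1, e)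
    refine ⟨(p.1 + q.1, v), ?_, by rw [mul_add, AddChar.map_add_eq_mul]⟩
    simp only [g5, ← hv, ← xx_add]
    rw [mul_assoc, ← mul_assoc (xx F 7 p.1), he]
    simp only [mul_assoc]

theorem avg_g5 (α : F) : avg ρ g5 (fun p => chi0 F (α * p.1)) =
    FT (fun u => ρ (xx F 7 u) * E0 ρ 0 0 0 0) α := by
  simp only [E0_x7_fix]
  simp only [avg, FT, E0, g5, Finset.sum_mul, smul_mul_assoc, Finset.smul_sum, smul_smul,
    Fintype.card_prod, Fintype.sum_prod_type, ← map_mul]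
  refine Finset.sum_congr rfl fun u _ => ?_
  refine Finset.sum_congr rfl fun a _ => Finset.sum_congr rfl fun b _ => Finset.sum_congr rfl fun c _ =>
    Finset.sum_congr rfl fun d _ => Finset.sum_congr rfl fun e _ => ?_
  congr 1
  simp [th, chi0_neg, qC]; ring

theorem trace_711 (α : F) :
    (rk ρ f711 (fun t => chi0 F (α * t.1 + 0 * t.2)) : ℂ) =
      FT (fun u => LinearMap.trace ℂ V (ρ (xx F 7 u) * EZ ρ 0)) α := by
  rw [← trace_rk ρ (charOn_f711 α 0), ← map_FT (LinearMap.trace ℂ V), avg_two]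
  congr 1
  refine FT_congr (fun u => ?_) α
  have h2 := map_FT (LinearMap.mulLeft ℂ (ρ (xx F 7 u))) (fun z => ρ (xx F 11 z)) 0
  simp only [LinearMap.mulLeft_apply] at h2
  simp only [EZ, avg_one, h2, f711_eq, map_mul]

/-- The invariants of the short root on the trivial weight of the radical. -/
theorem trivial_weight_lb (h3 : (3 : F) = 0)
    (hbot : ∀ β : F, β ≠ 0 → N0 ρ β 0 0 0 = 1)
    (hzero : ∀ a b d : F, b ≠ 0 → d ≠ 0 → N0 ρ a b 0 d = 0)
    {R : ℕ} (h711 : ∀ α : F, α ≠ 0 → rk ρ f711 (fun t => chi0 F (α * t.1 + 0 * t.2)) = R)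
    {A : ℕ} (hA : NZ ρ 0 = N0 ρ 0 0 0 0 + (Fintype.card F - 1) + Fintype.card F * A) :
    (Fintype.card F - 1) * (R - A) ≤ N0 ρ 0 0 0 0 := by
  classical
  have h2 := two_ne_of_three h3
  let n : ℕ := Fintype.card F - 1
  let g : F → ℂ := fun u => LinearMap.trace ℂ V (ρ (xx F 7 u) * E0 ρ 0 0 0 0)
  have hT : ∀ u, LinearMap.trace ℂ V (ρ (xx F 7 u) * EZ ρ 0) =
      ((n : ℂ) + g u) + (if u = 0 then ((Fintype.card F * A : ℕ) : ℂ) else 0) := by
    intro u
    by_cases hu : u = 0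
    · subst hu
      simp only [g, xx_zero, map_one, one_mul, trace_EZ, trace_E0, if_pos, hA]
      push_cast
      simp only [n]
      ring
    rw [if_neg hu, add_zero, ← sum_E0 ρ]
    simp only [Finset.mul_sum, map_sum]
    have hm : ∀ a b c d : F, b ≠ 0 ∨ c ≠ 0 ∨ d ≠ 0 →
        LinearMap.trace ℂ V (ρ (xx F 7 u) * E0 ρ a b c d) = 0 := by
      intro a b c d hbcd
      by_cases hfix : u * b + u ^ 2 * c - u ^ 3 * d = 0 ∧ 2 * u * c - 3 * u ^ 2 * d = 0 ∧
          3 * u * d = 0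
      swap
      · exact trace_x7_moved ρ u a b c d hfix
      have hc : c = 0 := by
        have : 2 * u * c = 0 := by linear_combination hfix.2.1 + u ^ 2 * d * h3
        exact (mul_eq_zero.1 this).resolve_left (mul_ne_zero h2 hu)
      subst hc
      have hb : b = u ^ 2 * d := by
        have : u * (b - u ^ 2 * d) = 0 := by linear_combination hfix.1
        exact sub_eq_zero.1 ((mul_eq_zero.1 this).resolve_left hu)
      have hd : d ≠ 0 := fun hd => by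
        subst hd
        simp at hb
        simp [hb] at hbcd
      have hb0 : b ≠ 0 := by rw [hb]; exact mul_ne_zero (pow_ne_zero _ hu) hd
      rw [show E0 ρ a b 0 d = 0 from avg_eq_zero ρ (hzero a b d hb0 hd), mul_zero, map_zero]
    have hrow : ∀ a, ∑ b, ∑ c, ∑ d, LinearMap.trace ℂ V (ρ (xx F 7 u) * E0 ρ a b c d) =
        LinearMap.trace ℂ V (ρ (xx F 7 u) * E0 ρ a 0 0 0) := fun a => by
      rw [Finset.sum_eq_single (0 : F) (fun b _ hb => Finset.sum_eq_zero fun c _ =>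
          Finset.sum_eq_zero fun d _ => hm a b c d (Or.inl hb)) (by simp),
        Finset.sum_eq_single (0 : F) (fun c _ hc =>
          Finset.sum_eq_zero fun d _ => hm a 0 c d (Or.inr (Or.inl hc))) (by simp),
        Finset.sum_eq_single (0 : F) (fun d _ hd => hm a 0 0 d (Or.inr (Or.inr hd))) (by simp)]
    rw [Finset.sum_congr rfl fun a _ => hrow a, ← Finset.add_sum_erase _ _ (Finset.mem_univ (0 : F)),
      Finset.sum_congr rfl fun a ha => trace_x7_line ρ ⟨-1, neg_ne_zero.2 one_ne_zero, fun e => h2 (by linear_combination -e)⟩ u a (hbot a (Finset.ne_of_mem_erase ha)),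
      Finset.sum_const, Finset.card_erase_of_mem (Finset.mem_univ _), Finset.card_univ, nsmul_one,
      add_comm]
  let Fa : F → ℕ := fun α => rk ρ g5 (fun p => chi0 F (α * p.1))
  have hFa : ∀ α, (Fa α : ℂ) = FT g α := fun α => by
    rw [← trace_rk ρ (charOn_g5 α), avg_g5, map_FT]
  have hsum : ∑ α, Fa α = N0 ρ 0 0 0 0 := by
    have : ((∑ α, Fa α : ℕ) : ℂ) = (N0 ρ 0 0 0 0 : ℂ) := by
      rw [Nat.cast_sum, Finset.sum_congr rfl fun α _ => hFa α, sum_FT]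
      show LinearMap.trace ℂ V (ρ (xx F 7 0) * E0 ρ 0 0 0 0) = _
      rw [xx_zero, map_one, one_mul, trace_E0]
    exact_mod_cast this
  have hR : ∀ α : F, α ≠ 0 → Fa α + A = R := by
    intro α hα
    have h := trace_711 ρ α
    rw [h711 α hα, FT_congr hT] at h
    have : (R : ℂ) = FT g α + A := by
      rw [h]
      have e1 : FT (fun u => (n : ℂ) + g u + (if u = 0 then ((Fintype.card F * A : ℕ) : ℂ) else 0)) α =
          FT (fun _ => (n : ℂ)) α + FT g α +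
            FT (fun u => if u = 0 then ((Fintype.card F * A : ℕ) : ℂ) else 0) α := by
        simp only [FT, smul_eq_mul, mul_add, Finset.sum_add_distrib]
      have e2 : FT (fun u : F => if u = 0 then ((Fintype.card F * A : ℕ) : ℂ) else 0) α = A := by
        simp [FT, Finset.sum_ite_eq', Nat.cast_mul, ← mul_assoc,
          inv_mul_cancel₀ (qC_ne (F := F))]
      rw [e1, e2, FT_const, if_neg hα, zero_add]
    rw [← hFa] at this
    exact_mod_cast this.symm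
  rw [← hsum, ← Finset.add_sum_erase _ _ (Finset.mem_univ (0 : F))]
  have he : ∑ α ∈ Finset.univ.erase (0 : F), Fa α = (Fintype.card F - 1) * (R - A) := by
    rw [Finset.sum_congr rfl fun α hα => (show Fa α = R - A by
      have := hR α (Finset.ne_of_mem_erase hα); omega),
      Finset.sum_const, Finset.card_erase_of_mem (Finset.mem_univ _), Finset.card_univ, smul_eq_mul]
  omega

end CfsgLib.G2Deg
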