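import Cfsg.Agent.Lib.Geo.G2MinDeg.Kernel3
import Cfsg.Agent.Lib.Geo.G2MinDeg.ThreeTop
import Mathlib.GroupTheory.Perm.Cycle.Type

/-!
# The trivial weight of the radical occurs when `q ≡ 1 (mod 3)`

Owner: helper23.
-/

set_option autoImplicit false

namespace CfsgLib.G2Deg

open Module CfsgLib.SLMinDeg CfsgLib.HallGen.ChevG2

section Generic

variable {G : Type*} [Group G] {V : Type*} [AddCommGroup V] [Module ℂ V]
  (ρ : Representation ℂ G V)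

theorem trace_transfer {A A' : Module.End ℂ V} (g z z' : G) (hA : ρ g * A = A' * ρ g)
    (hz : g * z = z' * g) :
    LinearMap.trace ℂ V (ρ z' * A') = LinearMap.trace ℂ V (ρ z * A) := by
  have e : ρ z' * A' = ρ g * (ρ z * A) * ρ g⁻¹ := by
    rw [← mul_assoc, ← map_mul, hz, map_mul, mul_assoc (ρ z'), hA, mul_assoc, mul_assoc, ← map_mul,
      mul_inv_cancel, map_one, mul_one]
  rw [e, LinearMap.trace_mul_comm, ← mul_assoc, ← map_mul, inv_mul_cancel, map_one, one_mul]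

variable [FiniteDimensional ℂ V] {T : Type*} [Fintype T] [Nonempty T] {f : T → G} {θ : T → ℂ}

theorem trace_scalar_mul (h : CharOn f θ) (hr : finrank ℂ (LinearMap.range (avg ρ f θ)) = 1) (a b : G)
    (ha : ρ a * avg ρ f θ = avg ρ f θ * ρ a) (hb : ρ b * avg ρ f θ = avg ρ f θ * ρ b) :
    LinearMap.trace ℂ V (ρ (a * b) * avg ρ f θ) =
      LinearMap.trace ℂ V (ρ a * avg ρ f θ) * LinearMap.trace ℂ V (ρ b * avg ρ f θ) := by
  obtain ⟨x, hx, hx'⟩ := exists_scalar ρ h hr a ha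
  obtain ⟨y, hy, hy'⟩ := exists_scalar ρ h hr b hb
  rw [hx', hy', map_mul ρ, mul_assoc, hy, mul_smul_comm, map_smul, hx', smul_eq_mul, mul_comm]

end Generic

variable {F : Type*} [Field F]

theorem tor_x10 {τ : Fˣ} (h : τ ^ 3 = 1) (v : F) :
    xx F 10 v * tz τ = tz τ * xx F 10 v := by
  rw [tz, tor_10, ← Units.val_pow_eq_pow_val, h, Units.val_one, one_mul, one_mul]

theorem exists_omega [Fintype F] (hq : Fintype.card F % 3 = 1) : ∃ τ : Fˣ, τ ^ 3 = 1 ∧ τ ≠ 1 := by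
  classical
  haveI : Fact (Nat.Prime 3) := ⟨Nat.prime_three⟩
  obtain ⟨τ, hτ⟩ := exists_prime_orderOf_dvd_card (G := Fˣ) 3
    (by rw [Fintype.card_units]; omega)
  refine ⟨τ, by rw [← hτ]; exact pow_orderOf_eq_one τ, fun e => ?_⟩
  rw [e, orderOf_one] at hτ
  exact absurd hτ (by norm_num)

theorem exists_bad_prime {q : ℕ} (hq : q % 3 = 1) (hq7 : 7 ≤ q) :
    ∃ r : ℕ, r.Prime ∧ r ∣ q ^ 3 - 1 ∧ ¬ r ∣ q ^ 3 * (q ^ 3 + 1) ∧ ¬ r ∣ q + 2 ∧ ¬ r ∣ q - 1 := by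
  obtain ⟨k, hk⟩ : ∃ k, q = 3 * k + 1 := ⟨q / 3, by omega⟩
  obtain ⟨m, hm⟩ : ∃ m, m = 3 * k ^ 2 + 3 * k + 1 := ⟨_, rfl⟩
  have hm1 : m ≠ 1 := by
    have : 1 ≤ k := by omega
    omega
  have hp := Nat.minFac_prime hm1
  obtain ⟨r, hr⟩ : ∃ r, r = m.minFac := ⟨_, rfl⟩
  rw [← hr] at hp
  have hrm : r ∣ m := hr ▸ Nat.minFac_dvd m
  have hr3 : r ≠ 3 := fun e => by subst e; omega
  have hr2 : r ≠ 2 := fun e => by
    subst e
    have hev : (k * (k + 1)) % 2 = 0 := Nat.even_iff.1 (Nat.even_mul_succ_self k)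
    have : m = 3 * (k * (k + 1)) + 1 := by rw [hm]; ring
    omega
  refine ⟨r, hp, ?_⟩
  have hrm' : (r : ℤ) ∣ (q : ℤ) ^ 2 + q + 1 := by
    refine (Int.natCast_dvd_natCast.2 hrm).trans ⟨3, ?_⟩
    rw [hm, hk]; push_cast; ring
  have h3 : r ∣ 3 → False := fun h => hr3 ((Nat.prime_dvd_prime_iff_eq hp Nat.prime_three).1 h)
  have hq3 : (r : ℤ) ∣ (q : ℤ) ^ 3 - 1 :=
    (hrm'.mul_left ((q : ℤ) - 1)).trans (dvd_of_eq (by ring))
  have hone : 1 ≤ q ^ 3 := Nat.one_le_pow _ _ (by omega)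
  refine ⟨?_, fun h => ?_, fun h => h3 ?_, fun h => h3 ?_⟩
  · rw [← Int.natCast_dvd_natCast, Nat.cast_sub hone]
    push_cast
    exact hq3
  · rcases hp.dvd_mul.1 h with h' | h'
    · have h1 := hp.dvd_of_dvd_pow h'
      have : (r : ℤ) ∣ 1 := (Int.dvd_add_right ((Int.natCast_dvd_natCast.2 h1).mul_left ((q : ℤ) + 1))).1
        (hrm'.trans (dvd_of_eq (by ring)))
      exact hp.one_lt.ne' (Nat.dvd_one.1 (Int.natCast_dvd_natCast.1 (by simpa using this)))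
    · have h1 : (r : ℤ) ∣ ((q ^ 3 + 1 : ℕ) : ℤ) - ((q : ℤ) ^ 3 - 1) :=
        dvd_sub (Int.natCast_dvd_natCast.2 h') hq3
      push_cast at h1
      ring_nf at h1
      exact hr2 ((Nat.prime_dvd_prime_iff_eq hp Nat.prime_two).1 (Int.natCast_dvd_natCast.1 h1))
  · have h1 := (hrm'.sub ((Int.natCast_dvd_natCast.2 h).mul_left ((q : ℤ) - 1)))
    rw [show (q : ℤ) ^ 2 + q + 1 - ((q : ℤ) - 1) * ((q + 2 : ℕ) : ℤ) = ((3 : ℕ) : ℤ) by push_cast; ring] at h1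
    exact Int.natCast_dvd_natCast.1 h1
  · have h1 := (hrm'.sub ((Int.natCast_dvd_natCast.2 h).mul_left ((q : ℤ) + 2)))
    rw [Nat.cast_sub (by omega : 1 ≤ q)] at h1
    rw [show (q : ℤ) ^ 2 + q + 1 - ((q : ℤ) + 2) * ((q : ℤ) - ((1 : ℕ) : ℤ)) = ((3 : ℕ) : ℤ) by
      push_cast; ring] at h1
    exact Int.natCast_dvd_natCast.1 h1

variable [Fintype F] {V : Type*} [AddCommGroup V] [Module ℂ V] [FiniteDimensional ℂ V]
  (ρ : Representation ℂ (GG F) V)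

theorem E3_tz (τ : Fˣ) (h : τ ^ 3 = 1) (β γ c : F) :
    ρ (tz τ) * E3 ρ β ((τ : F) * γ) c = E3 ρ β γ c * ρ (tz τ) := by
  refine conj_avg ρ (tz τ)
    ((Equiv.refl F).prodCongr ((Equiv.mulLeft₀ (τ : F) τ.ne_zero).prodCongr (Equiv.refl F)))
    (fun t => ?_) fun t => ?_
  · rw [tz, f3_tor]
    simp [← Units.val_pow_eq_pow_val, h, Prod.map]
  · simp only [Equiv.prodCongr_apply, Prod.map, Equiv.refl_apply, Equiv.mulLeft₀_apply]
    congr 1; ring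

theorem E0_tor (τ σ : Fˣ) (w₁ w₂ w₃ w₄ : F) :
    ρ (tor F τ σ) * E0 ρ ((σ : F) * w₁) ((τ : F) * σ * w₂) ((τ : F) ^ 2 * σ * w₃)
        ((τ : F) ^ 3 * σ * w₄) = E0 ρ w₁ w₂ w₃ w₄ * ρ (tor F τ σ) := by
  refine E0_conj ρ (tor F τ σ) (fun t => ((σ : F) * t.1, (τ : F) * σ * t.2.1,
    (τ : F) ^ 2 * σ * t.2.2.1, (τ : F) ^ 3 * σ * t.2.2.2.1,
    (τ : F) ^ 3 * (σ : F) ^ 2 * t.2.2.2.2)) (fun t => qel_tor τ σ _ _ _ _ _) fun t => ?_
  simp only [th]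
  congr 1
  ring

theorem E0_na (w₁ w₂ w₃ w₄ : F) :
    ρ (na F) * E0 ρ w₁ w₂ w₃ w₄ = E0 ρ (-w₄) (-w₃) w₂ w₁ * ρ (na F) := by
  refine E0_conj ρ (na F) (fun t => (-t.2.2.2.1, -t.2.2.1, t.2.1, t.1,
    t.2.2.2.2 + t.1 * t.2.2.2.1 + 3 * t.2.1 * t.2.2.1)) (fun t => qel_na _ _ _ _ _) fun t => ?_
  simp only [th]
  congr 1
  ring

theorem E3_tor (τ σ : Fˣ) (β γ c : F) :
    ρ (tor F τ σ) * E3 ρ ((σ : F) * β) ((τ : F) * σ * γ) ((τ : F) ^ 3 * (σ : F) ^ 2 * c) =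
      E3 ρ β γ c * ρ (tor F τ σ) := by
  refine conj_avg ρ (tor F τ σ) ((Equiv.mulLeft₀ (σ : F) σ.ne_zero).prodCongr
    ((Equiv.mulLeft₀ ((τ : F) * σ) (mul_ne_zero τ.ne_zero σ.ne_zero)).prodCongr
      (Equiv.mulLeft₀ ((τ : F) ^ 3 * (σ : F) ^ 2)
        (mul_ne_zero (pow_ne_zero 3 τ.ne_zero) (pow_ne_zero 2 σ.ne_zero)))))
    (fun t => ?_) fun t => ?_
  · rw [f3_tor]; rfl
  · simp only [Equiv.prodCongr_apply, Prod.map, Equiv.mulLeft₀_apply]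
    congr 1; ring

theorem E3_x10 (v β γ c : F) :
    ρ (xx F 10 v) * E3 ρ β γ c = E3 ρ (β + v * c) γ c * ρ (xx F 10 v) := by
  rw [← qel_10]
  refine conj_avg ρ _ ⟨fun p => (p.1, p.2.1, p.2.2 - v * p.1),
    fun p => (p.1, p.2.1, p.2.2 + v * p.1), fun p => by simp, fun p => by simp⟩
    (fun p => ?_) fun p => ?_
  · simp only [f3, qel_mul, Equiv.coe_fn_mk]; congr 1 <;> ring
  · simp only [Equiv.coe_fn_mk]; congr 1; ring

theorem trace_E3_moved (τ : Fˣ) (h : τ ^ 3 = 1) (hne : τ ≠ 1) {γ : F} (hγ : γ ≠ 0) (β c : F) :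
    LinearMap.trace ℂ V (ρ (tz τ) * E3 ρ β γ c) = 0 := by
  have hE := E3_tz ρ τ h β (γ / τ) c
  rw [mul_div_cancel₀ γ τ.ne_zero] at hE
  refine trace_mul_avg_eq_zero ρ (charOn_f3 _ _ _) (charOn_f3 _ _ _) (fun e => hγ ?_) _ hE
  have h0 : γ - γ / τ = 0 := chi0_nondeg fun t => by
    have h1 := congrFun e (0, t, 0)
    simp only [mul_zero, zero_add, add_zero] at h1
    rw [sub_mul, sub_eq_add_neg, AddChar.map_add_eq_mul, chi0_neg, h1, mul_inv_cancel₀ (chi0_ne _)]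
  have h1 : γ * ((τ : F) - 1) = 0 := by
    have := τ.ne_zero
    field_simp at h0
    linear_combination h0
  exact (mul_eq_zero.1 h1).resolve_right (sub_ne_zero.2 fun e' => hne (Units.ext e'))

theorem trace_E0_moved (τ : Fˣ) (h : τ ^ 3 = 1) (hne : τ ≠ 1) {w₂ w₃ : F} (hw : w₂ ≠ 0 ∨ w₃ ≠ 0)
    (w₁ w₄ : F) : LinearMap.trace ℂ V (ρ (tz τ) * E0 ρ w₁ w₂ w₃ w₄) = 0 := by
  have h0 : (τ : F) ^ 3 = 1 := by rw [← Units.val_pow_eq_pow_val, h, Units.val_one]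
  have hne' : (τ : F) ≠ 1 := fun e => hne (Units.ext e)
  have hE := E0_tor ρ τ 1 w₁ (w₂ * (τ : F) ^ 2) (w₃ * τ) w₄
  simp only [Units.val_one, one_mul, mul_one] at hE
  rw [show (τ : F) * (w₂ * (τ : F) ^ 2) = w₂ by linear_combination w₂ * h0,
    show (τ : F) ^ 2 * (w₃ * τ) = w₃ by linear_combination w₃ * h0, h0, one_mul] at hE
  refine trace_mul_avg_eq_zero ρ (charOn_th _ _ _ _) (charOn_th _ _ _ _) (fun e => ?_) _ hE
  obtain ⟨-, e2, e3, -⟩ := th_inj e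
  rcases hw with hw | hw
  · have : w₂ * ((τ : F) - 1) = 0 := by linear_combination (τ : F) * e2 + w₂ * h0
    exact hw ((mul_eq_zero.1 this).resolve_right (sub_ne_zero.2 hne'))
  · have : w₃ * ((τ : F) - 1) = 0 := by linear_combination -e3
    exact hw ((mul_eq_zero.1 this).resolve_right (sub_ne_zero.2 hne'))

/-- The character value at an element of order three. -/
theorem char_tz (hS : Small ρ) (hf : N0 ρ 0 0 0 0 = 0) {t : Fˣ} (ht : t ^ 3 = 1) (ht1 : t ≠ 1) :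
    ρ.character (tz t) = ((Fintype.card F - 1 : ℕ) : ℂ) *
      ((Fintype.card F : ℂ) * LinearMap.trace ℂ V (ρ (tz t) * E3 ρ 0 0 1) +
        (LinearMap.trace ℂ V (ρ (tz t) * E0 ρ 0 0 0 1) +
          LinearMap.trace ℂ V (ρ (tz (t ^ 2)) * E0 ρ 0 0 0 1))) := by
  classical
  have ht2 : (t ^ 2) ^ 3 = 1 := by rw [← pow_mul, mul_comm, pow_mul, ht, one_pow]
  have hlam : ∀ u : Fˣ, u ^ 3 = 1 → ∀ s : F, s ≠ 0 →
      LinearMap.trace ℂ V (ρ (tz u) * E0 ρ 0 0 0 s) = LinearMap.trace ℂ V (ρ (tz u) * E0 ρ 0 0 0 1) := by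
    intro u hu s hs
    refine (trace_transfer ρ (tor F 1 (Units.mk0 s hs)) _ _ ?_
      (tz_commute hu (tor_mem_HS _ _)).eq.symm).symm
    simpa using E0_tor ρ 1 (Units.mk0 s hs) 0 0 0 1
  have hbot : ∀ β : F, β ≠ 0 → LinearMap.trace ℂ V (ρ (tz t) * E0 ρ β 0 0 0) =
      LinearMap.trace ℂ V (ρ (tz (t ^ 2)) * E0 ρ 0 0 0 1) := by
    intro β hβ
    rw [← hlam _ ht2 (-β) (neg_ne_zero.2 hβ)]
    refine trace_transfer ρ (na F) _ _ (by simpa using E0_na ρ 0 0 0 (-β)) ?_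
    have h4 : (t ^ 2) ^ 2 = t := by rw [← pow_mul, show 2 * 2 = 3 + 1 by norm_num, pow_succ, ht, one_mul]
    have h := na_conj_tz ht2
    rw [h4] at h
    exact mul_inv_eq_iff_eq_mul.1 h
  have hmu : ∀ β c : F, c ≠ 0 → LinearMap.trace ℂ V (ρ (tz t) * E3 ρ β 0 c) =
      LinearMap.trace ℂ V (ρ (tz t) * E3 ρ 0 0 1) := by
    intro β c hc
    have h1 := trace_transfer ρ (xx F 10 (β / c)) (tz t) (tz t) (E3_x10 ρ (β / c) 0 0 c) (tor_x10 ht _)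
    rw [zero_add, div_mul_cancel₀ β hc] at h1
    rw [h1]
    refine (trace_transfer ρ (tor F (Units.mk0 c hc) (Units.mk0 c hc)⁻¹) _ _ ?_
      (tz_commute ht (tor_mem_HS _ _)).eq.symm).symm
    have := E3_tor ρ (Units.mk0 c hc) (Units.mk0 c hc)⁻¹ 0 0 1
    simp only [mul_zero, Units.val_mk0, Units.val_inv_eq_inv_val, mul_one] at this
    rwa [show c ^ 3 * c⁻¹ ^ 2 = c by field_simp] at this
  have hz0 : ∀ w₁ w₂ w₃ w₄, N0 ρ w₁ w₂ w₃ w₄ = 0 →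
      LinearMap.trace ℂ V (ρ (tz t) * E0 ρ w₁ w₂ w₃ w₄) = 0 := fun _ _ _ _ h => by
    rw [show E0 ρ _ _ _ _ = 0 from avg_eq_zero ρ h, mul_zero, map_zero]
  have hcard : (Finset.univ.erase (0 : F)).card = Fintype.card F - 1 := by
    rw [Finset.card_erase_of_mem (Finset.mem_univ _), Finset.card_univ]
  have hC : ∀ c : F, c ≠ 0 → LinearMap.trace ℂ V (ρ (tz t) * EZ ρ c) =
      (Fintype.card F : ℂ) * LinearMap.trace ℂ V (ρ (tz t) * E3 ρ 0 0 1) := by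
    intro c hc
    simp only [← sum_E3 ρ c, Finset.mul_sum, map_sum]
    rw [Finset.sum_congr rfl fun β _ => Finset.sum_eq_single (0 : F)
      (fun γ _ hγ => trace_E3_moved ρ t ht ht1 hγ β c) (by simp),
      Finset.sum_congr rfl fun β _ => hmu β c hc, Finset.sum_const, Finset.card_univ, nsmul_eq_mul]
  have hrow : ∀ w₁, ∑ w₂, ∑ w₃, ∑ w₄, LinearMap.trace ℂ V (ρ (tz t) * E0 ρ w₁ w₂ w₃ w₄) =
      ∑ w₄, LinearMap.trace ℂ V (ρ (tz t) * E0 ρ w₁ 0 0 w₄) := fun w₁ => by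
    rw [Finset.sum_eq_single (0 : F) (fun b _ hb => Finset.sum_eq_zero fun c _ =>
        Finset.sum_eq_zero fun d _ => trace_E0_moved ρ t ht ht1 (Or.inl hb) _ _) (by simp),
      Finset.sum_eq_single (0 : F) (fun c _ hc => Finset.sum_eq_zero fun d _ =>
        trace_E0_moved ρ t ht ht1 (Or.inr hc) _ _) (by simp)]
  have hoff : ∀ w₁ w₄ : F, w₁ ≠ 0 → w₄ ≠ 0 → N0 ρ w₁ 0 0 w₄ = 0 := fun a d ha hd => by
    by_contra h
    obtain ⟨u, e1, -, e3⟩ := hS.top_only a 0 0 d hd h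
    have hu : u = 0 := by simpa [hS.three, hd] using e3
    exact ha (by rw [e1, hu]; simp)
  have hchar : ρ.character (tz t) = ∑ c, LinearMap.trace ℂ V (ρ (tz t) * EZ ρ c) := by
    rw [← map_sum (LinearMap.trace ℂ V), ← Finset.mul_sum, sum_EZ, mul_one]; rfl
  rw [hchar, ← Finset.add_sum_erase _ _ (Finset.mem_univ (0 : F)),
    Finset.sum_congr rfl fun c hc => hC c (Finset.ne_of_mem_erase hc), Finset.sum_const, hcard,
    nsmul_eq_mul]
  simp only [← sum_E0 ρ, Finset.mul_sum, map_sum]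
  rw [Finset.sum_congr rfl fun a _ => hrow a, ← Finset.add_sum_erase _ _ (Finset.mem_univ (0 : F)),
    ← Finset.add_sum_erase (Finset.univ : Finset F)
      (fun d => LinearMap.trace ℂ V (ρ (tz t) * E0 ρ 0 0 0 d)) (Finset.mem_univ (0 : F)),
    hz0 _ _ _ _ hf, zero_add,
    Finset.sum_congr rfl fun d hd => hlam t ht d (Finset.ne_of_mem_erase hd),
    Finset.sum_const, hcard, nsmul_eq_mul]
  have hb : ∀ a ∈ Finset.univ.erase (0 : F),
      ∑ d, LinearMap.trace ℂ V (ρ (tz t) * E0 ρ a 0 0 d) =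
        LinearMap.trace ℂ V (ρ (tz (t ^ 2)) * E0 ρ 0 0 0 1) := fun a ha => by
    rw [Finset.sum_eq_single (0 : F)
      (fun d _ hd => hz0 _ _ _ _ (hoff a d (Finset.ne_of_mem_erase ha) hd)) (by simp)]
    exact hbot a (Finset.ne_of_mem_erase ha)
  rw [Finset.sum_congr rfl hb, Finset.sum_const, hcard, nsmul_eq_mul]
  ring

/-- The trivial weight of the radical occurs. -/
theorem N0_ne_zero [ρ.IsIrreducible] (hS : Small ρ) (hq : Fintype.card F % 3 = 1)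
    (hq7 : 7 ≤ Fintype.card F) : N0 ρ 0 0 0 0 ≠ 0 := by
  classical
  intro hf
  obtain ⟨τ, hτ, hτ1⟩ := exists_omega hq
  have hτ2 : (τ ^ 2) ^ 3 = 1 := by rw [← pow_mul, mul_comm, pow_mul, hτ, one_pow]
  have hτ4 : (τ ^ 2) ^ 2 = τ := by rw [← pow_mul, show 2 * 2 = 3 + 1 by norm_num, pow_succ, hτ, one_mul]
  have hτ21 : τ ^ 2 ≠ 1 := fun e => hτ1 (by rw [← hτ4, e, one_pow])
  let mu : Fˣ → ℂ := fun t => LinearMap.trace ℂ V (ρ (tz t) * E3 ρ 0 0 1)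
  let lam : Fˣ → ℂ := fun t => LinearMap.trace ℂ V (ρ (tz t) * E0 ρ 0 0 0 1)
  have hE3 : ∀ t : Fˣ, t ^ 3 = 1 → ρ (tz t) * E3 ρ 0 0 1 = E3 ρ 0 0 1 * ρ (tz t) := fun t ht => by
    simpa using E3_tz ρ t ht 0 0 1
  have hE0 : ∀ t : Fˣ, t ^ 3 = 1 → ρ (tz t) * E0 ρ 0 0 0 1 = E0 ρ 0 0 0 1 * ρ (tz t) := fun t ht => by
    have h0 : (t : F) ^ 3 = 1 := by rw [← Units.val_pow_eq_pow_val, ht, Units.val_one]
    simpa [h0] using E0_tor ρ t 1 0 0 0 1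
  have hmulmu : ∀ a b : Fˣ, a ^ 3 = 1 → b ^ 3 = 1 → mu (a * b) = mu a * mu b := fun a b ha hb => by
    show LinearMap.trace ℂ V (ρ (tz (a * b)) * _) = _
    rw [← tz_mul ha hb]
    exact trace_scalar_mul ρ (charOn_f3 _ _ _) hS.m1 _ _ (hE3 a ha) (hE3 b hb)
  have hmullam : ∀ a b : Fˣ, a ^ 3 = 1 → b ^ 3 = 1 → lam (a * b) = lam a * lam b := fun a b ha hb => by
    show LinearMap.trace ℂ V (ρ (tz (a * b)) * _) = _
    rw [← tz_mul ha hb]
    exact trace_scalar_mul ρ (charOn_th _ _ _ _) (hS.top 1 one_ne_zero) _ _ (hE0 a ha) (hE0 b hb)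
  have hmu1 : mu 1 = 1 := by
    show LinearMap.trace ℂ V _ = 1
    rw [tz_one, map_one ρ, one_mul, trace_E3, hS.m1, Nat.cast_one]
  have hlam1 : lam 1 = 1 := by
    show LinearMap.trace ℂ V _ = 1
    rw [tz_one, map_one ρ, one_mul, trace_E0, hS.top 1 one_ne_zero, Nat.cast_one]
  have k1 := char_tz ρ hS hf hτ hτ1
  have k2 := char_tz ρ hS hf hτ2 hτ21
  have hconj : ρ.character (tz (τ ^ 2)) = ρ.character (tz τ) := by
    rw [← na_conj_tz hτ, ρ.char_conj]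
  rw [hτ4, hconj, k1] at k2
  have hn0 : ((Fintype.card F - 1 : ℕ) : ℂ) ≠ 0 := Nat.cast_ne_zero.2 (by omega)
  have hmm : mu τ = mu (τ ^ 2) := by
    refine mul_left_cancel₀ (qC_ne (F := F)) ?_
    have := mul_left_cancel₀ hn0 k2
    linear_combination this
  have hsq : mu (τ ^ 2) = mu τ * mu τ := by rw [sq]; exact hmulmu τ τ hτ hτ
  have hcube : mu τ * mu (τ ^ 2) = 1 := by
    rw [← hmulmu τ _ hτ hτ2, ← pow_succ', hτ, hmu1]
  have hμ : mu τ = 1 := by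
    have hne : mu τ ≠ 0 := left_ne_zero_of_mul_eq_one hcube
    exact (mul_eq_left₀ hne).1 (hsq.symm.trans hmm.symm)
  have hl2 : lam (τ ^ 2) = lam τ * lam τ := by rw [sq]; exact hmullam τ τ hτ hτ
  have hl3 : lam τ * lam (τ ^ 2) = 1 := by
    rw [← hmullam τ _ hτ hτ2, ← pow_succ', hτ, hlam1]
  obtain ⟨a, ha, hchar⟩ : ∃ a : ℕ, (a = (Fintype.card F - 1) * (Fintype.card F + 2) ∨
      a = (Fintype.card F - 1) * (Fintype.card F - 1)) ∧ ρ.character (tz τ) = (a : ℂ) := by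
    have hval : ρ.character (tz τ) = ((Fintype.card F - 1 : ℕ) : ℂ) *
        ((Fintype.card F : ℂ) + (lam τ + lam τ * lam τ)) := by
      rw [k1]
      show _ * (_ * mu τ + (lam τ + lam (τ ^ 2))) = _
      rw [hμ, mul_one, hl2]
    by_cases hl : lam τ = 1
    · refine ⟨_, Or.inl rfl, ?_⟩
      rw [hval, hl]; push_cast; ring
    · refine ⟨_, Or.inr rfl, ?_⟩
      have : lam τ + lam τ * lam τ = -1 := by
        rw [hl2] at hl3
        have h2 : (lam τ - 1) * (lam τ + lam τ * lam τ + 1) = 0 := by linear_combination hl3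
        linear_combination (mul_eq_zero.1 h2).resolve_left (sub_ne_zero.2 hl)
      have hq1 : 1 ≤ Fintype.card F := Fintype.card_pos
      rw [hval, this]; push_cast [Nat.cast_sub hq1]; ring
  have hint := CfsgLib.CharIntegral.isIntegral_central ρ (tz τ)
  rw [hchar] at hint
  have hdpos : finrank ℂ V ≠ 0 := (CfsgLib.CharIntegral.finrank_pos_of_irreducible ρ).ne'
  have hdvd := CfsgLib.CharIntegral.dvd_of_isIntegral_div hdpos (by exact_mod_cast hint)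
  have hd : finrank ℂ V = Fintype.card F ^ 3 - 1 := by
    have := hS.dim; rw [hf] at this; omega
  obtain ⟨r, hr, hr1, hr2, hr3, hr4⟩ := exists_bad_prime hq hq7
  rw [hd] at hdvd
  rcases hr.dvd_mul.1 (hr1.trans hdvd) with h | h
  · exact hr2 (h.trans (index_centralizer_dvd hτ))
  · rcases ha with rfl | rfl
    · rcases hr.dvd_mul.1 h with h' | h'
      · exact hr4 h'
      · exact hr3 h'
    · rcases hr.dvd_mul.1 h with h' | h' <;> exact hr4 h'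

end CfsgLib.G2Deg
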