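import Cfsg.Agent.Lib.Geo.SLMin.Weights

/-!
# The transform over a finite field with values in a complex module

Owner: helper23.
-/

set_option autoImplicit false

namespace CfsgLib.G2Deg

open CfsgLib.SLMinDeg

variable {F : Type*} [Field F] [Fintype F] {M : Type*} [AddCommGroup M] [Module ℂ M]

/-- The number of elements of the field as a complex number. -/
noncomputable abbrev qC (F : Type*) [Fintype F] : ℂ := (Fintype.card F : ℂ)

theorem qC_ne : qC F ≠ 0 := Nat.cast_ne_zero.2 Fintype.card_ne_zero

theorem sum_chi0_mul_left (a : F) [DecidableEq F] :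
    ∑ t : F, chi0 F (a * t) = if a = 0 then qC F else 0 := by
  by_cases ha : a = 0
  · simp [ha]
  · rw [if_neg ha]
    exact sum_chi0_comp (LinearMap.mulLeft F a) fun h => ha (by
      simpa using LinearMap.congr_fun h 1)

theorem sum_chi0_mul_right (a : F) [DecidableEq F] :
    ∑ t : F, chi0 F (t * a) = if a = 0 then qC F else 0 := by
  simp_rw [mul_comm _ a]
  exact sum_chi0_mul_left a

/-- The transform. -/
noncomputable def FT (φ : F → M) (a : F) : M :=
  (qC F)⁻¹ • ∑ t, chi0 F (-(a * t)) • φ t

/-- The constant term. -/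
theorem FT_zero (φ : F → M) : FT φ 0 = (qC F)⁻¹ • ∑ t, φ t := by simp [FT]

/-- The values summed over all weights. -/
theorem sum_FT (φ : F → M) : ∑ a, FT φ a = φ 0 := by
  classical
  simp only [FT, ← Finset.smul_sum]
  rw [Finset.sum_comm, Finset.sum_eq_single (0 : F)]
  · simp [← Finset.sum_smul, ← Nat.cast_smul_eq_nsmul ℂ, smul_smul, inv_mul_cancel₀ (qC_ne (F := F))]
  · intro t _ ht
    rw [← Finset.sum_smul]
    have : ∑ a : F, chi0 F (-(a * t)) = 0 := by
      simp_rw [← mul_neg]
      rw [sum_chi0_mul_right, if_neg (neg_ne_zero.2 ht)]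
    rw [this, zero_smul]
  · simp

theorem FT_congr {φ φ' : F → M} (h : ∀ t, φ t = φ' t) (a : F) : FT φ a = FT φ' a := by
  simp only [FT, h]

/-- Translation gives a phase. -/
theorem FT_shift (φ : F → M) (t₀ a : F) :
    FT (fun t => φ (t + t₀)) a = chi0 F (a * t₀) • FT φ a := by
  simp only [FT, Finset.smul_sum, smul_smul]
  refine Fintype.sum_equiv (Equiv.addRight t₀) _ _ fun t => ?_
  simp only [Equiv.coe_addRight]
  congr 1
  rw [mul_comm (chi0 F (a * t₀)), mul_assoc, ← AddChar.map_add_eq_mul]
  congr 2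
  ring

/-- The inversion formula. -/
theorem inv_FT (φ : F → M) (s : F) : ∑ a, chi0 F (a * s) • FT φ a = φ s := by
  have h := sum_FT (fun t => φ (t + s))
  simpa only [FT_shift, zero_add] using h

/-- A phase gives a translation. -/
theorem FT_phase (φ : F → M) (b a : F) :
    FT (fun t => chi0 F (b * t) • φ t) a = FT φ (a - b) := by
  simp only [FT, smul_smul, ← AddChar.map_add_eq_mul]
  congr 1
  refine Finset.sum_congr rfl fun t _ => ?_
  congr 2
  ring

theorem FT_scale (φ : F → M) {k : F} (hk : k ≠ 0) (a : F) :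
    FT (fun t => φ (k * t)) a = FT φ (a / k) := by
  simp only [FT]
  congr 1
  refine Fintype.sum_equiv (Equiv.mulLeft₀ k hk) _ _ fun t => ?_
  show _ = chi0 F (-(a / k * (k * t))) • φ (k * t)
  congr 2
  field_simp

theorem FT_smul (φ : F → M) (c : ℂ) (a : F) : FT (fun t => c • φ t) a = c • FT φ a := by
  simp only [FT, Finset.smul_sum, smul_smul]
  exact Finset.sum_congr rfl fun t _ => by congr 1; ring

theorem FT_sum {ι : Type*} (s : Finset ι) (φ : ι → F → M) (a : F) :
    FT (fun t => ∑ i ∈ s, φ i t) a = ∑ i ∈ s, FT (φ i) a := by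
  simp only [FT, Finset.smul_sum]
  exact Finset.sum_comm

/-- The transform commutes with linear maps. -/
theorem map_FT {M' : Type*} [AddCommGroup M'] [Module ℂ M'] (L : M →ₗ[ℂ] M') (φ : F → M) (a : F) :
    L (FT φ a) = FT (fun t => L (φ t)) a := by
  simp [FT, map_sum]

/-- The transform of a constant. -/
theorem FT_const (x : M) (a : F) [DecidableEq F] :
    FT (fun _ => x) a = if a = 0 then x else 0 := by
  simp only [FT, ← Finset.sum_smul, ← neg_mul]
  rw [sum_chi0_mul_left]
  by_cases ha : a = 0
  · simp [ha, smul_smul, inv_mul_cancel₀ (qC_ne (F := F))]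
  · simp [ha]

/-- A function is constant when its nontrivial weights vanish. -/
theorem eq_const_of_FT (φ : F → M) (h : ∀ a, a ≠ 0 → FT φ a = 0) (s : F) : φ s = φ 0 := by
  classical
  have h1 : ∀ u, φ u = FT φ 0 := fun u => by
    rw [← inv_FT φ u, Finset.sum_eq_single (0 : F)]
    · simp
    · exact fun a _ ha => by rw [h a ha, smul_zero]
    · simp
  rw [h1 s, h1 0]

end CfsgLib.G2Deg
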