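import Cfsg.Agent.Lib.Geo.G2MinDeg.Fourier
import Cfsg.Agent.Lib.Char.Integral
import Mathlib.LinearAlgebra.Trace

/-!
# Averages of a representation with a character on a finite family

Owner: helper23. A family `f` with a multiplicative `θ` gives a projection; its rank is the
multiplicity of `θ`.
-/

set_option autoImplicit false

namespace CfsgLib.G2Deg

open Module

variable {G : Type*} [Group G] {V : Type*} [AddCommGroup V] [Module ℂ V]
  (ρ : Representation ℂ G V) {T : Type*} [Fintype T] (f : T → G) (θ : T → ℂ)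

/-- A family closed under products on which `θ` is multiplicative. -/
structure CharOn : Prop where
  inj : Function.Injective f
  ne : ∀ t, θ t ≠ 0
  mul : ∀ t u, ∃ v, f t * f u = f v ∧ θ v = θ t * θ u

/-- The average. -/
noncomputable def avg : Module.End ℂ V := (Fintype.card T : ℂ)⁻¹ • ∑ t, (θ t)⁻¹ • ρ (f t)

variable {f θ} (h : CharOn f θ)
include h

theorem mul_avg (u : T) : ρ (f u) * avg ρ f θ = θ u • avg ρ f θ := by
  choose m hm hθ using fun t => h.mul u t
  have hb : Function.Bijective m := (Finite.injective_iff_bijective (f := m)).1 fun a b e => by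
    have : f u * f a = f u * f b := by rw [hm, hm, e]
    exact h.inj (mul_left_cancel this)
  simp only [avg, mul_smul_comm, Finset.mul_sum, Finset.smul_sum, smul_smul]
  refine Fintype.sum_bijective m hb _ _ fun t => ?_
  rw [← map_mul, hm, hθ, mul_inv]
  congr 1
  rw [mul_comm (θ u), mul_assoc, mul_comm ((θ u)⁻¹) (θ t)⁻¹, mul_assoc, inv_mul_cancel₀ (h.ne u),
    mul_one]

theorem avg_mul (u : T) : avg ρ f θ * ρ (f u) = θ u • avg ρ f θ := by
  choose m hm hθ using fun t => h.mul t u
  have hb : Function.Bijective m := (Finite.injective_iff_bijective (f := m)).1 fun a b e => by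
    have : f a * f u = f b * f u := by rw [hm, hm, e]
    exact h.inj (mul_right_cancel this)
  simp only [avg, smul_mul_assoc, Finset.sum_mul, Finset.smul_sum, smul_smul]
  refine Fintype.sum_bijective m hb _ _ fun t => ?_
  rw [← map_mul, hm, hθ, mul_inv]
  congr 1
  rw [mul_comm (θ u), mul_assoc, mul_assoc, inv_mul_cancel₀ (h.ne u), mul_one]

theorem avg_idem [Nonempty T] : avg ρ f θ * avg ρ f θ = avg ρ f θ := by
  have h2 : ∀ t, ((θ t)⁻¹ • ρ (f t)) * avg ρ f θ = avg ρ f θ := fun t => by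
    rw [smul_mul_assoc, mul_avg ρ h, smul_smul, inv_mul_cancel₀ (h.ne t), one_smul]
  conv_lhs => arg 1; rw [avg]
  rw [smul_mul_assoc, Finset.sum_mul, Finset.sum_congr rfl fun t _ => h2 t, Finset.sum_const,
    Finset.card_univ, ← Nat.cast_smul_eq_nsmul ℂ, smul_smul,
    inv_mul_cancel₀ (Nat.cast_ne_zero.2 Fintype.card_ne_zero), one_smul]

/-- Averages for different characters annihilate each other. -/
theorem avg_mul_avg {θ' : T → ℂ} (h' : CharOn f θ') (hne : θ ≠ θ') :
    avg ρ f θ * avg ρ f θ' = 0 := by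
  obtain ⟨u, hu⟩ := Function.ne_iff.1 hne
  have h1 : avg ρ f θ * ρ (f u) * avg ρ f θ' = avg ρ f θ * (ρ (f u) * avg ρ f θ') := mul_assoc _ _ _
  rw [avg_mul ρ h, mul_avg ρ h', smul_mul_assoc, mul_smul_comm, ← sub_eq_zero, ← sub_smul] at h1
  exact (smul_eq_zero.1 h1).resolve_left (sub_ne_zero.2 hu)

variable [FiniteDimensional ℂ V]

theorem avg_isProj [Nonempty T] :
    LinearMap.IsProj (LinearMap.range (avg ρ f θ)) (avg ρ f θ) :=
  ⟨fun v => LinearMap.mem_range_self _ v, fun v hv => by
    obtain ⟨u, rfl⟩ := hv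
    exact LinearMap.congr_fun (avg_idem ρ h) u⟩

/-- The multiplicity is the rank of the average. -/
theorem trace_avg [Nonempty T] :
    LinearMap.trace ℂ V (avg ρ f θ) = (finrank ℂ (LinearMap.range (avg ρ f θ)) : ℂ) :=
  (avg_isProj ρ h).trace

/-- An element moving the character has trace zero on the weight space. -/
theorem trace_mul_avg_eq_zero [Nonempty T] {θ' : T → ℂ} (h' : CharOn f θ') (hne : θ ≠ θ') (g : G)
    (hg : ρ g * avg ρ f θ = avg ρ f θ' * ρ g) :
    LinearMap.trace ℂ V (ρ g * avg ρ f θ) = 0 := by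
  conv_lhs => rw [← avg_idem ρ h, ← mul_assoc]
  rw [LinearMap.trace_mul_comm, hg, ← mul_assoc, avg_mul_avg ρ h h' hne, zero_mul, map_zero]

omit h [FiniteDimensional ℂ V] in
/-- Conjugation of averages. -/
theorem conj_avg {T' : Type*} [Fintype T'] {f' : T' → G} {θ' : T' → ℂ} (g : G) (σ : T ≃ T')
    (hf : ∀ t, g * f t = f' (σ t) * g) (hθ : ∀ t, θ' (σ t) = θ t) :
    ρ g * avg ρ f θ = avg ρ f' θ' * ρ g := by
  simp only [avg, mul_smul_comm, smul_mul_assoc, Finset.mul_sum, Finset.sum_mul]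
  rw [Fintype.card_congr σ]
  congr 1
  refine Fintype.sum_equiv σ _ _ fun t => ?_
  rw [hθ, ← map_mul, ← map_mul, hf]

/-- Conjugate averages have the same rank. -/
theorem rank_eq_of_conj [Nonempty T] {T' : Type*} [Fintype T'] [Nonempty T'] {f' : T' → G}
    {θ' : T' → ℂ} (h' : CharOn f' θ') (g : G)
    (hg : ρ g * avg ρ f θ = avg ρ f' θ' * ρ g) :
    finrank ℂ (LinearMap.range (avg ρ f θ)) = finrank ℂ (LinearMap.range (avg ρ f' θ')) := by
  have h1 : LinearMap.trace ℂ V (avg ρ f θ) = LinearMap.trace ℂ V (avg ρ f' θ') := by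
    have e : avg ρ f θ = ρ g⁻¹ * (avg ρ f' θ' * ρ g) := by
      rw [← hg, ← mul_assoc, ← map_mul, inv_mul_cancel, map_one, one_mul]
    rw [e, LinearMap.trace_mul_comm, mul_assoc, ← map_mul, mul_inv_cancel, map_one, mul_one]
  rw [trace_avg ρ h, trace_avg ρ h'] at h1
  exact_mod_cast h1

omit h in
/-- A rank zero average vanishes. -/
theorem avg_eq_zero
    (hr : finrank ℂ (LinearMap.range (avg ρ f θ)) = 0) : avg ρ f θ = 0 := by
  rw [Submodule.finrank_eq_zero, LinearMap.range_eq_bot] at hr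
  exact hr

/-- On a space of rank one an element commuting with the projection is a scalar. -/
theorem exists_scalar [Nonempty T] (hr : finrank ℂ (LinearMap.range (avg ρ f θ)) = 1) (g : G)
    (hg : ρ g * avg ρ f θ = avg ρ f θ * ρ g) :
    ∃ c : ℂ, ρ g * avg ρ f θ = c • avg ρ f θ ∧
      LinearMap.trace ℂ V (ρ g * avg ρ f θ) = c := by
  obtain ⟨⟨v, hv⟩, hv0, hspan⟩ := finrank_eq_one_iff'.1 hr
  have hmem : ρ g v ∈ LinearMap.range (avg ρ f θ) := by
    refine ⟨ρ g v, ?_⟩
    rw [← Module.End.mul_apply, ← hg, Module.End.mul_apply]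
    exact congrArg _ ((avg_isProj ρ h).map_id v hv)
  obtain ⟨c, hc⟩ := hspan ⟨_, hmem⟩
  have hc' : c • v = ρ g v := congrArg Subtype.val hc
  have key : ρ g * avg ρ f θ = c • avg ρ f θ := LinearMap.ext fun x => by
    obtain ⟨a, ha⟩ := hspan ⟨_, LinearMap.mem_range_self (avg ρ f θ) x⟩
    have ha' : a • v = avg ρ f θ x := congrArg Subtype.val ha
    rw [Module.End.mul_apply, LinearMap.smul_apply, ← ha', map_smul, ← hc', smul_comm]
  refine ⟨c, key, ?_⟩
  rw [key, map_smul, trace_avg ρ h, hr, Nat.cast_one, smul_eq_mul, mul_one]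

end CfsgLib.G2Deg
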