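import Cfsg.Agent.Lib.HallGen.ChevG2Basic
import Cfsg.Agent.Lib.Lie.Rel.Order
import Cfsg.Agent.Lib.Lie.Rel.OrderData

/-!
# The order of `G₂(q)`

Owner: helper23.
-/

set_option autoImplicit false

namespace CfsgLib.G2Deg

open CfsgLib.HallGen.ChevG2 CfsgLib.Lie.Chev
open Cfsg.Lie (chevG2)

theorem card_GG (F : Type*) [Field F] [Fintype F] :
    Nat.card (GG F) = Fintype.card F ^ 6 *
      ((Fintype.card F ^ 2 - 1) * (Fintype.card F ^ 6 - 1)) := by
  have hcG := card_group certG2 F cmat_G2 smithG2 polyG2 rfl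
  rw [Finset.prod_eq_one (fun i _ => by
    rw [(by decide +kernel : ∀ i : Fin chevG2.rank, ([1, 1] : List ℕ).getD (i : ℕ) 0 = 1) i,
      Nat.gcd_one_right]), one_mul] at hcG
  simp only [List.map_cons, List.map_nil, List.prod_cons, List.prod_nil, mul_one] at hcG
  rw [show chevG2.nroots / 2 = 6 by decide +kernel] at hcG
  exact hcG

end CfsgLib.G2Deg
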