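import Cfsg.Agent.Lib.Geo.G2MinDeg.NonThree
import Cfsg.Agent.Lib.Geo.G2MinDeg.Order
import Cfsg.Agent.Lib.Known.G2Singer.Torus
import Cfsg.Agent.Lib.Classical.LinearOrder

/-!
# The elements of order three centralising the long root `SL(3)`

Owner: helper23.
-/

set_option autoImplicit false

namespace CfsgLib.G2Deg

open CfsgLib.HallGen.ChevG2 CfsgLib.Lie.Chev
open Cfsg.Lie (chevG2)
open CfsgLib.Known.G2Singer (emb emb_injective isMon_diag diag_mem_HS rootWt rootWt_zpow expR)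
open scoped MatrixGroups

variable {F : Type*} [Field F]

/-- The torus element attached to a cube root of unity. -/
noncomputable abbrev tz (τ : Fˣ) : GG F := tor F τ 1

theorem tz_eq_he7 {τ : Fˣ} (h : τ ^ 3 = 1) : tz τ = (RR F).he (rt 7) ((τ : F) ^ 2) := by
  simp only [tz, tor, mul_one, one_pow, h, Units.val_one, Units.val_pow_eq_pow_val, (RR F).he_one]
  exact he7_eq _

theorem tz_mul {τ τ' : Fˣ} (h : τ ^ 3 = 1) (h' : τ' ^ 3 = 1) : tz τ * tz τ' = tz (τ * τ') := by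
  rw [tz_eq_he7 h, tz_eq_he7 h', tz_eq_he7 (by rw [mul_pow, h, h', mul_one]),
    (RR F).he_mul _ (pow_ne_zero _ τ.ne_zero) (pow_ne_zero _ τ'.ne_zero), Units.val_mul, mul_pow]

theorem tz_one : tz (1 : Fˣ) = 1 := by
  rw [tz_eq_he7 (one_pow 3), Units.val_one, one_pow, (RR F).he_one]

theorem cart0_facts :
    (∀ s : Rt, cart 0 ((w 0)⁻¹ s) = -cart 0 s) ∧
    (∀ r : Fin 12, (2 * chevG2.cartan 0 r -
      ((expR.getD r 0 0) + (expR.getD r 0 1) + (expR.getD r 0 2))) % 3 = 0) := by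
  decide +kernel

theorem na_conj_he7 {c : F} (hc : c ≠ 0) :
    na F * (RR F).he (rt 7) c * (na F)⁻¹ = (RR F).he (rt 7) c⁻¹ := by
  have ha := (RR F).isMon_ne_simple i0 (one_ne_zero (α := F))
  rw [wperm_eq] at ha
  refine HS_ext ?_ ((RR F).he_mem _ (inv_ne_zero hc)) (isMon_conj ha (isMon_he7 hc)) ?_
  · rw [na, (RR F).he_conj ha (rt 7) hc]
    exact (RR F).he_mem _ hc
  · refine (congrArg ((RR F).IsMon _ 1) (funext fun s => ?_)).mp (isMon_he7 (inv_ne_zero hc))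
    show c⁻¹ ^ cart 0 s = c ^ cart 0 ((w 0)⁻¹ s)
    rw [cart0_facts.1, inv_zpow']

theorem na_conj_tz {τ : Fˣ} (h : τ ^ 3 = 1) : na F * tz τ * (na F)⁻¹ = tz (τ ^ 2) := by
  have h' : (τ ^ 2) ^ 3 = 1 := by rw [← pow_mul, mul_comm, pow_mul, h, one_pow]
  rw [tz_eq_he7 h, tz_eq_he7 h', na_conj_he7 (pow_ne_zero _ τ.ne_zero), Units.val_pow_eq_pow_val]
  congr 1
  have h0 : (τ : F) ^ 3 = 1 := by rw [← Units.val_pow_eq_pow_val, h, Units.val_one]
  rw [inv_eq_of_mul_eq_one_right]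
  linear_combination ((τ : F) ^ 3 + 1) * h0

theorem tz_commute {τ : Fˣ} (h : τ ^ 3 = 1) {t : GG F} (ht : t ∈ (RR F).HS) :
    Commute (tz τ) t :=
  (RR F).HS_isMulCommutative (tor_mem_HS τ 1) ht

theorem zpow_of_cube {c : F} (hc : c ^ 3 = 1) {a b : ℤ} (h : (a - b) % 3 = 0) : c ^ a = c ^ b := by
  have hne : c ≠ 0 := fun e => by simp [e] at hc
  obtain ⟨k, hk⟩ := Int.dvd_of_emod_eq_zero h
  rw [show a = 3 * k + b by omega, zpow_add₀ hne, zpow_mul,
    show c ^ (3 : ℤ) = 1 from (zpow_ofNat c 3).trans hc, one_zpow, one_mul]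

/-- The scalar matrix of a cube root of unity. -/
def scal (τ : Fˣ) (h : τ ^ 3 = 1) : SL(3, F) :=
  ⟨Matrix.diagonal fun _ => (τ : F), by
    rw [Matrix.det_diagonal, Finset.prod_const, Finset.card_univ, Fintype.card_fin,
      ← Units.val_pow_eq_pow_val, h, Units.val_one]⟩

theorem tz_eq_emb {τ : Fˣ} (h : τ ^ 3 = 1) : tz τ = emb F (scal τ h) := by
  have hd : ((scal τ h : SL(3, F)) : Matrix (Fin 3) (Fin 3) F) =
      Matrix.diagonal fun _ : Fin 3 => (τ : F) := rfl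
  have h0 : (τ : F) ^ 3 = 1 := by rw [← Units.val_pow_eq_pow_val, h, Units.val_one]
  refine HS_ext (tor_mem_HS τ 1) (diag_mem_HS hd) ?_ (isMon_diag hd)
  rw [tz_eq_he7 h]
  refine (congrArg ((RR F).IsMon _ 1) (funext fun s => ?_)).mp
    (isMon_he7 (pow_ne_zero 2 τ.ne_zero))
  rw [rootWt_zpow (fun _ => τ.ne_zero) s, ← zpow_add₀ τ.ne_zero, ← zpow_add₀ τ.ne_zero,
    ← zpow_natCast, ← zpow_mul]
  exact zpow_of_cube h0 (cart0_facts.2 s)

theorem emb_mem_centralizer {τ : Fˣ} (h : τ ^ 3 = 1) :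
    (emb F).range ≤ Subgroup.centralizer ({tz τ} : Set (GG F)) := by
  rintro _ ⟨g, rfl⟩
  rw [Subgroup.mem_centralizer_singleton_iff, tz_eq_emb h, ← map_mul, ← map_mul]
  congr 1
  refine Subtype.ext ?_
  simp only [Matrix.SpecialLinearGroup.coe_mul]
  ext i j
  simp [scal, Matrix.mul_diagonal, Matrix.diagonal_mul, mul_comm]

/-- The index of the centraliser. -/
theorem index_centralizer_dvd [Fintype F] {τ : Fˣ} (h : τ ^ 3 = 1) :
    (Subgroup.centralizer ({tz τ} : Set (GG F))).index ∣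
      Fintype.card F ^ 3 * (Fintype.card F ^ 3 + 1) := by
  refine (Subgroup.index_dvd_of_le (emb_mem_centralizer h)).trans (dvd_of_eq ?_)
  have hmul := (emb F).range.card_mul_index
  rw [← Nat.card_congr (MonoidHom.ofInjective (emb_injective (F := F))).toEquiv, card_GG] at hmul
  have hS := CfsgLib.Classical.card_SL (F := F) 3 (by norm_num)
  simp only [Fin.prod_univ_three, Fin.val_zero, Fin.val_one, Fin.val_two, pow_zero, pow_one] at hS
  obtain ⟨n, hn⟩ : ∃ n, Fintype.card F = n + 2 :=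
    ⟨Fintype.card F - 2, by have := Fintype.one_lt_card (α := F); omega⟩
  generalize Fintype.card F = q at hn hmul hS ⊢
  generalize Nat.card SL(3, F) = S at hmul hS
  generalize (emb F).range.index = I at hmul ⊢
  have hq2 : 2 ≤ q := by omega
  have e6 : q ^ 6 - 1 = (q ^ 3 - 1) * (q ^ 3 + 1) := by
    rw [mul_comm, ← Nat.sq_sub_sq, ← pow_mul] 
  have e2 : q ^ 3 - q = q * (q ^ 2 - 1) := by rw [Nat.mul_sub, mul_one]; ring_nf
  have e3 : q ^ 3 - q ^ 2 = (q - 1) * q ^ 2 := by rw [Nat.sub_mul, one_mul]; ring_nf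
  rw [e2, e3] at hS
  have hS' : S = q ^ 3 * ((q ^ 2 - 1) * (q ^ 3 - 1)) :=
    Nat.eq_of_mul_eq_mul_left (show 0 < q - 1 by omega) (by rw [hS]; ring)
  have hpos : 0 < q ^ 3 * ((q ^ 2 - 1) * (q ^ 3 - 1)) := by
    have := Nat.one_lt_pow (n := 2) two_ne_zero (show 1 < q by omega)
    have := Nat.one_lt_pow (n := 3) three_ne_zero (show 1 < q by omega)
    refine Nat.mul_pos (by omega) (Nat.mul_pos ?_ ?_) <;> omega
  rw [hS', e6] at hmul
  exact Nat.eq_of_mul_eq_mul_left hpos (by rw [hmul]; ring)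

end CfsgLib.G2Deg
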