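import Cfsg.Agent.Lib.Geo.G2MinDeg.ThreeTop

/-!
# The degree bound in characteristic three

Owner: helper23.
-/

set_option autoImplicit false

namespace CfsgLib.G2Deg

open Module CfsgLib.SLMinDeg CfsgLib.HallGen.ChevG2

variable {F : Type*} [Field F] [Fintype F] {V : Type*} [AddCommGroup V] [Module ℂ V]
  [FiniteDimensional ℂ V] (ρ : Representation ℂ (GG F) V)

theorem sum_split' (f : F → ℕ) {v : ℕ} (h : ∀ x, x ≠ 0 → f x = v) :
    ∑ x, f x = f 0 + (Fintype.card F - 1) * v := by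
  classical
  rw [← Finset.add_sum_erase _ _ (Finset.mem_univ (0 : F)),
    Finset.sum_congr rfl fun x hx => h x (Finset.ne_of_mem_erase hx), Finset.sum_const,
    Finset.card_erase_of_mem (Finset.mem_univ _), Finset.card_univ, smul_eq_mul]

theorem Rz_norm (h3 : (3 : F) = 0) {a b : F} (h : a ≠ 0 ∨ b ≠ 0) (c : F) :
    ∃ w, w ≠ 0 ∧ Rz ρ a b c = Rz ρ 0 w c := by
  have h2 := two_ne_of_three h3
  by_cases hb : b = 0
  · subst hb
    refine ⟨a, h.resolve_right (by simp), ?_⟩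
    rw [← Rz_na ρ h3 a 0 c, neg_zero]
  · refine ⟨b, hb, ?_⟩
    have := Rz_x7 ρ h3 (-a / (2 * b)) a b c
    rw [show a + 2 * (-a / (2 * b)) * b = 0 by field_simp; ring] at this
    exact this.symm

theorem Rz_val [DecidableEq F] (h3 : (3 : F) = 0) {a b c : F} (h : a ≠ 0 ∨ b ≠ 0) :
    Rz ρ a b c = if c = 0 then Rz ρ 0 1 0 else Rz ρ 0 1 1 := by
  classical
  obtain ⟨w, hw, he⟩ := Rz_norm ρ h3 h c
  rw [he]
  split_ifs with hc
  · subst hc
    have := Rz_tor ρ h3 1 (Units.mk0 w hw) 0 1 0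
    simpa using this
  · have := Rz_tor ρ h3 (Units.mk0 (w ^ 2 / c) (div_ne_zero (pow_ne_zero _ hw) hc))
      (Units.mk0 (c ^ 2 / w ^ 3) (div_ne_zero (pow_ne_zero _ hc) (pow_ne_zero _ hw))) 0 1 1
    simp only [mul_zero, Units.val_mk0, mul_one] at this
    rwa [show (w ^ 2 / c) ^ 2 * (c ^ 2 / w ^ 3) = w by field_simp,
      show (w ^ 2 / c) ^ 3 * (c ^ 2 / w ^ 3) ^ 2 = c by field_simp] at this

theorem Rz_mid (h3 : (3 : F) = 0) {c : F} (hc : c ≠ 0) : Rz ρ 0 0 c = Rz ρ 0 0 1 := by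
  have := Rz_tor ρ h3 (Units.mk0 c hc) (Units.mk0 c hc)⁻¹ 0 0 1
  simp only [mul_zero, Units.val_mk0, Units.val_inv_eq_inv_val, mul_one] at this
  rwa [show c ^ 3 * c⁻¹ ^ 2 = c by field_simp] at this

theorem sum_w2 (h3 : (3 : F) = 0) {γ : F} (hγ : γ ≠ 0) (δ : F) :
    ∑ a, ∑ b, N0 ρ a b γ δ = Fintype.card F * ∑ a, N0 ρ a 0 γ δ := by
  have h2 := two_ne_of_three h3
  rw [Finset.sum_comm, Finset.sum_congr rfl fun b _ => (show ∑ a, N0 ρ a b γ δ = ∑ a, N0 ρ a 0 γ δ from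
    Fintype.sum_equiv (Equiv.addRight
      (-b / (2 * γ) * b + (-b / (2 * γ)) ^ 2 * γ - (-b / (2 * γ)) ^ 3 * δ)) _ _ fun a => by
      rw [← N0_x7 ρ (-b / (2 * γ)) a b γ δ]
      simp only [Equiv.coe_addRight, h3, zero_mul, sub_zero]
      congr 1
      · ring
      · field_simp; ring),
    Finset.sum_const, Finset.card_univ, smul_eq_mul]

theorem sum_w3 (h3 : (3 : F) = 0) (α : F) {γ : F} (hγ : γ ≠ 0) :
    ∑ a, N0 ρ a α γ 0 = ∑ a, N0 ρ a 0 γ 0 := by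
  have h2 := two_ne_of_three h3
  refine Fintype.sum_equiv (Equiv.addRight
    (-α / (2 * γ) * α + (-α / (2 * γ)) ^ 2 * γ)) _ _ fun a => ?_
  rw [← N0_x7 ρ (-α / (2 * γ)) a α γ 0]
  simp only [Equiv.coe_addRight, mul_zero, sub_zero]
  congr 1
  · ring
  · field_simp; ring

theorem line_w4 (h3 : (3 : F) = 0) (δ : F) :
    δ ≠ 0 → ∑ a, N0 ρ a 0 0 δ = Fintype.card F * N0 ρ 0 0 0 δ := by
  intro hδ
  rw [Finset.sum_congr rfl fun a _ => (show N0 ρ a 0 0 δ = N0 ρ 0 0 0 δ from by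
    obtain ⟨u, hu⟩ := exists_cube h3 (-(a / δ))
    have h := N0_x7 ρ u 0 0 0 δ
    simp only [mul_zero, add_zero, zero_sub, h3, zero_mul, neg_zero, sub_zero] at h
    rwa [hu, neg_mul, neg_neg, div_mul_cancel₀ a hδ] at h), Finset.sum_const, Finset.card_univ,
    smul_eq_mul]

theorem fibre_line (h3 : (3 : F) = 0) {γ : F} (hγ : γ ≠ 0) :
    ∑ a, N0 ρ a γ 0 0 = Fintype.card F * N0 ρ 0 γ 0 0 := by
  rw [Finset.sum_congr rfl fun a _ => (show N0 ρ a γ 0 0 = N0 ρ 0 γ 0 0 from by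
    have h := N0_x7 ρ (a / γ) 0 γ 0 0
    simp only [mul_zero, zero_add, add_zero, sub_zero, h3, zero_mul] at h
    rwa [div_mul_cancel₀ a hγ] at h), Finset.sum_const, Finset.card_univ, smul_eq_mul]

/-- A weight off the line makes a fibre large. -/
theorem fibre_large (h3 : (3 : F) = 0) {γ a d : F} (hd : d ≠ 0) (hN : N0 ρ a γ 0 d ≠ 0) :
    (Fintype.card F - 1) * Fintype.card F ≤ 6 * ∑ x, ∑ y, N0 ρ x γ 0 y := by
  classical
  let Φ : Fˣ × F → F × F := fun p =>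
    ((p.1 : F)⁻¹ * a + p.2 * γ - p.2 ^ 3 * ((p.1 : F) ^ 2 * d), (p.1 : F) ^ 2 * d)
  have hΦ : ∀ p, N0 ρ (Φ p).1 γ 0 (Φ p).2 ≠ 0 := by
    rintro ⟨τ, u⟩
    have h1 := N0_tor ρ τ τ⁻¹ a γ 0 d
    have h2 := N0_x7 ρ u ((τ : F)⁻¹ * a) γ 0 ((τ : F) ^ 2 * d)
    simp only [Units.val_inv_eq_inv_val, mul_zero] at h1
    rw [mul_inv_cancel₀ τ.ne_zero, one_mul,
      show (τ : F) ^ 3 * (τ : F)⁻¹ * d = (τ : F) ^ 2 * d by field_simp] at h1
    simp only [h3, zero_mul, mul_zero, add_zero, sub_zero] at h2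
    show N0 ρ ((τ : F)⁻¹ * a + u * γ - u ^ 3 * ((τ : F) ^ 2 * d)) γ 0 ((τ : F) ^ 2 * d) ≠ 0
    rw [h2, h1]
    exact hN
  have hfib : ∀ y ∈ (Finset.univ : Finset (Fˣ × F)).image Φ,
      ((Finset.univ : Finset (Fˣ × F)).filter fun p => Φ p = y).card ≤ 6 := by
    intro y hy
    obtain ⟨⟨τ₀, u₀⟩, -, rfl⟩ := Finset.mem_image.1 hy
    refine le_trans (Finset.card_le_mul_card_image (f := Prod.fst) _ 3 fun τ hτ => ?_)
      (Nat.mul_le_mul (le_refl 3) (le_trans (Finset.card_le_card (t := {τ₀, -τ₀}) ?_) Finset.card_le_two))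
    · refine le_trans (Finset.card_le_card_of_injOn Prod.snd (fun p hp => ?_) fun p hp q hq e => ?_)
        (card_cubic_le h3 (mul_ne_zero (pow_ne_zero 2 τ.ne_zero) hd) γ
          ((Φ (τ₀, u₀)).1 - (τ : F)⁻¹ * a))
      · simp only [Finset.mem_coe, Finset.mem_filter, Finset.mem_univ, true_and] at hp ⊢
        obtain ⟨hp1, hp2⟩ := hp
        rw [← hp1, ← hp2]
        simp only [Φ]
        ring
      · simp only [Finset.mem_coe, Finset.mem_filter] at hp hq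
        exact Prod.ext (hp.2.trans hq.2.symm) e
    · intro τ hτ
      obtain ⟨⟨σ, u⟩, hp, rfl⟩ := Finset.mem_image.1 hτ
      have he : (σ : F) ^ 2 = (τ₀ : F) ^ 2 :=
        mul_right_cancel₀ hd (congrArg Prod.snd (Finset.mem_filter.1 hp).2)
      simp only [Finset.mem_insert, Finset.mem_singleton]
      rcases eq_or_eq_neg_of_sq_eq_sq _ _ he with e | e
      · exact Or.inl (Units.ext e)
      · exact Or.inr (Units.ext (by simpa using e))
  have h1 := Finset.card_le_mul_card_image _ 6 hfib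
  rw [Finset.card_univ, Fintype.card_prod, Fintype.card_units] at h1
  refine h1.trans (Nat.mul_le_mul_left 6 ?_)
  calc _ = ∑ y ∈ (Finset.univ : Finset (Fˣ × F)).image Φ, 1 := by simp
    _ ≤ ∑ y ∈ (Finset.univ : Finset (Fˣ × F)).image Φ, N0 ρ y.1 γ 0 y.2 :=
        Finset.sum_le_sum fun y hy => by
          obtain ⟨p, -, rfl⟩ := Finset.mem_image.1 hy
          exact Nat.one_le_iff_ne_zero.2 (hΦ p)
    _ ≤ ∑ y : F × F, N0 ρ y.1 γ 0 y.2 := Finset.sum_le_sum_of_subset (Finset.subset_univ _)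
    _ = _ := Fintype.sum_prod_type' (f := fun x y => N0 ρ x γ 0 y)

/-- The bound in characteristic three. -/
theorem three_bound [ρ.IsIrreducible] (h3 : (3 : F) = 0) (hq : 9 ≤ Fintype.card F)
    (hd : 2 ≤ finrank ℂ V) :
    Fintype.card F ^ 4 + Fintype.card F ^ 2 ≤ finrank ℂ V + 2 := by
  classical
  have h2 := two_ne_of_three h3
  obtain ⟨n, hn⟩ : ∃ n, Fintype.card F = n + 1 := ⟨Fintype.card F - 1, by omega⟩
  have hn8 : 8 ≤ n := by omega
  have hsub : Fintype.card F - 1 = n := by omega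
  obtain ⟨M1, hM1⟩ : ∃ x, x = Rz ρ 0 1 1 := ⟨_, rfl⟩
  obtain ⟨M0, hM0⟩ : ∃ x, x = Rz ρ 0 0 1 := ⟨_, rfl⟩
  obtain ⟨k, hk⟩ : ∃ x, x = Rz ρ 0 1 0 := ⟨_, rfl⟩
  obtain ⟨P, hP⟩ : ∃ x, x = R9b ρ 0 0 1 := ⟨_, rfl⟩
  have hz1 : ∀ a b c : F, c ≠ 0 → (a ≠ 0 ∨ b ≠ 0) → Rz ρ a b c = M1 := fun a b c hc h => by
    rw [Rz_val ρ h3 h, if_neg hc, hM1]
  have hz0 : ∀ a b : F, (a ≠ 0 ∨ b ≠ 0) → Rz ρ a b 0 = k := fun a b h => by
    rw [Rz_val ρ h3 h, if_pos rfl, hk]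
  have h911 : ∀ γ c : F, γ ≠ 0 → c ≠ 0 → ∑ a, Rz ρ a γ c = (n + 1) * M1 := fun γ c hγ hc => by
    rw [Finset.sum_congr rfl fun a _ => hz1 a γ c hc (Or.inr hγ), Finset.sum_const, Finset.card_univ,
      smul_eq_mul, hn]
  have h911' : ∀ c : F, c ≠ 0 → ∑ a, Rz ρ a 0 c = M0 + n * M1 := fun c hc => by
    rw [sum_split' _ fun a ha => hz1 a 0 c hc (Or.inl ha), Rz_mid ρ h3 hc, hM0, hsub]
  have h9sum : ∀ γ c : F, c ≠ 0 → (n + 1) * R9b ρ γ 0 c = ∑ a, Rz ρ a γ c := fun γ c hc => by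
    rw [sum_Rz_left ρ h3, ← sum_R9b_mid, Finset.sum_congr rfl fun δ _ => R9b_eq_zero ρ hc γ δ,
      Finset.sum_const, Finset.card_univ, smul_eq_mul, hn]
  have h9γ : ∀ γ c : F, γ ≠ 0 → c ≠ 0 → R9b ρ γ 0 c = M1 := fun γ c hγ hc =>
    Nat.eq_of_mul_eq_mul_left (Nat.succ_pos n) ((h9sum γ c hc).trans (h911 γ c hγ hc))
  have h90 : ∀ c : F, c ≠ 0 → R9b ρ 0 0 c = P := fun c hc => by
    rw [hP]
    exact Nat.eq_of_mul_eq_mul_left (Nat.succ_pos n) (((h9sum 0 c hc).trans (h911' c hc)).trans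
      ((h9sum 0 1 one_ne_zero).trans (h911' 1 one_ne_zero)).symm)
  have hP0 : (n + 1) * P = M0 + n * M1 := by
    rw [hP]; exact (h9sum 0 1 one_ne_zero).trans (h911' 1 one_ne_zero)
  have hnb : ∀ γ c : F, ∑ a, Rz ρ a γ c =
      R9b ρ γ (-c) 0 + ∑ x ∈ Finset.univ.erase (0 : F), R9b ρ γ 0 x := fun γ c => by
    rw [sum_Rz_left ρ h3, rk_911_910, ← sum_R9b_top,
      ← Finset.add_sum_erase _ _ (Finset.mem_univ (0 : F))]
    congr 1
    exact Finset.sum_congr rfl fun x hx => R9b_eq_zero ρ (Finset.ne_of_mem_erase hx) γ _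
  have herase : (Finset.univ.erase (0 : F)).card = n := by
    rw [Finset.card_erase_of_mem (Finset.mem_univ _), Finset.card_univ, hsub]
  have hKγ : ∀ γ δ : F, γ ≠ 0 → δ ≠ 0 → R9b ρ γ δ 0 = M1 := fun γ δ hγ hδ => by
    have h := hnb γ (-δ)
    rw [neg_neg, h911 γ _ hγ (neg_ne_zero.2 hδ),
      Finset.sum_congr rfl fun x hx => h9γ γ x hγ (Finset.ne_of_mem_erase hx),
      Finset.sum_const, herase, smul_eq_mul, add_mul, one_mul] at h
    omega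
  obtain ⟨L, hL⟩ : ∃ x, x = ∑ a, N0 ρ a 0 1 1 := ⟨_, rfl⟩
  have hM1L : M1 = (n + 1) * L := by
    rw [← hKγ 1 1 one_ne_zero one_ne_zero, R9b_zero, sum_w2 ρ h3 one_ne_zero, hn, hL]
  have hJ : ∀ γ : F, γ ≠ 0 → k = (∑ a, N0 ρ a 0 γ 0) + n * L := by
    intro γ hγ
    have h := hnb γ 0
    rw [neg_zero, Finset.sum_congr rfl fun a _ => hz0 a γ (Or.inr hγ), Finset.sum_const,
      Finset.card_univ, smul_eq_mul,
      Finset.sum_congr rfl fun x hx => h9γ γ x hγ (Finset.ne_of_mem_erase hx),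
      Finset.sum_const, herase, smul_eq_mul, R9b_zero, sum_w2 ρ h3 hγ, hM1L, hn] at h
    exact Nat.eq_of_mul_eq_mul_left (Nat.succ_pos n) (by rw [Nat.succ_eq_add_one, h]; ring)
  have hK0 : ∀ δ : F, δ ≠ 0 → R9b ρ 0 δ 0 = P := by
    intro δ hδ
    have h := hnb 0 (-δ)
    rw [neg_neg, h911' _ (neg_ne_zero.2 hδ),
      Finset.sum_congr rfl fun x hx => h90 x (Finset.ne_of_mem_erase hx),
      Finset.sum_const, herase, smul_eq_mul, ← hP0, add_mul, one_mul] at h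
    omega
  have hNZ : ∀ c : F, c ≠ 0 → NZ ρ c = M0 + n * M1 + n * ((n + 1) * M1) := fun c hc => by
    rw [← sum_Rz ρ h3 c, Finset.sum_comm, sum_split' _ fun b hb => h911 b c hb hc,
      h911' c hc, hsub]
  have hNZ0 : NZ ρ 0 = Rz ρ 0 0 0 + n * k + n * ((n + 1) * k) := by
    rw [← sum_Rz ρ h3 0, Finset.sum_comm,
      sum_split' (fun b => ∑ a, Rz ρ a b 0) (v := (n + 1) * k) fun b hb => by
        rw [Finset.sum_congr rfl fun a _ => hz0 a b (Or.inr hb), Finset.sum_const, Finset.card_univ,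
          smul_eq_mul, hn],
      sum_split' (fun a => Rz ρ a 0 0) (v := k) fun a ha => hz0 a 0 (Or.inl ha), hsub]
  have hdim : finrank ℂ V = NZ ρ 0 + n * (M0 + n * M1 + n * ((n + 1) * M1)) := by
    rw [← sum_NZ ρ, sum_split' _ hNZ, hsub]
  rw [hdim, hNZ0, hn]
  have hL0 : L ≠ 0 := fun h0 => short_nontrivial ρ h3 (by omega) hd fun c hc a b hab => by
    rw [hz1 a b c hc hab, hM1L, h0, mul_zero]
  have hkL : n * L ≤ k := by rw [hJ 1 one_ne_zero]; exact Nat.le_add_left _ _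
  by_cases hbigL : 2 ≤ L
  · have := hM1L
    nlinarith [Nat.mul_le_mul_left (n * n * (n + 1) * (n + 2)) hbigL,
      mul_le_mul' (le_refl (n * n * n)) hn8, mul_le_mul' (le_refl (n * n)) hn8]
  have hL1 : L = 1 := by omega
  rw [hL1, mul_one] at hM1L hkL
  subst hM1L
  by_cases hbig : ∃ γ a d : F, γ ≠ 0 ∧ d ≠ 0 ∧ N0 ρ a γ 0 d ≠ 0
  · obtain ⟨γ, a, d, hγ, hd0, hN⟩ := hbig
    have h := fibre_large ρ h3 hd0 hN
    rw [← Rz_zero ρ h3 γ 0, hz0 γ 0 (Or.inl hγ), hn, Nat.add_sub_cancel] at h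
    nlinarith [Nat.mul_le_mul_left (n + 2) (Nat.mul_le_mul_left n h),
      mul_le_mul' (le_refl (n * n * n)) hn8, mul_le_mul' (le_refl (n * n)) hn8]
  push Not at hbig
  have hfib : ∀ γ : F, γ ≠ 0 → k = (n + 1) * N0 ρ 0 γ 0 0 := fun γ hγ => by
    rw [← hz0 γ 0 (Or.inl hγ), Rz_zero ρ h3, Finset.sum_congr rfl fun a _ =>
      Finset.sum_eq_single (0 : F) (fun d _ hd' => hbig γ a d hγ hd') (by simp),
      fibre_line ρ h3 hγ, hn]
  obtain ⟨n', hn'⟩ : ∃ x, x = N0 ρ 0 1 0 0 := ⟨_, rfl⟩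
  have hk' : k = (n + 1) * n' := by rw [hn']; exact hfib 1 one_ne_zero
  rcases Nat.lt_or_ge n' 2 with hlt | hge
  swap
  · nlinarith [Nat.mul_le_mul_left (n * (n + 1) * (n + 2)) hge,
      mul_le_mul' (le_refl (n * n)) hn8]
  have hk1 : k = n + 1 := by interval_cases n' <;> omega
  obtain ⟨j, hj⟩ : ∃ x, x = N0 ρ 0 0 0 1 := ⟨_, rfl⟩
  have hPj : ∀ δ : F, δ ≠ 0 → P = (n + 1) * N0 ρ 0 0 0 δ := fun δ hδ => by
    rw [← hK0 δ hδ, R9b_zero, Finset.sum_congr rfl fun a _ =>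
      Finset.sum_eq_single (0 : F) (fun b _ hb => hbig b a δ hb hδ) (by simp),
      line_w4 ρ h3 δ hδ, hn]
  have hPj1 : P = (n + 1) * j := by rw [hj]; exact hPj 1 one_ne_zero
  have hMj : M0 + n * (n + 1) = (n + 1) * ((n + 1) * j) := by rw [← hPj1]; exact hP0.symm
  rcases Nat.lt_or_ge j 2 with hlt' | hge'
  swap
  · nlinarith [Nat.mul_le_mul_left (n * (n + 1) * (n + 1)) hge',
      mul_le_mul' (le_refl (n * n)) hn8]
  have hj1 : j = 1 := by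
    rcases Nat.eq_zero_or_pos j with h0 | h0
    · rw [h0] at hMj; nlinarith
    · omega
  rw [hj1] at hMj hPj1
  have hbot : ∀ β : F, β ≠ 0 → N0 ρ β 0 0 0 = 1 := fun β hβ => by
    have h1 := N0_na ρ β 0 0 0
    have h2' := hPj (-β) (neg_ne_zero.2 hβ)
    rw [hPj1] at h2'
    rw [neg_zero] at h1
    rw [← h1]
    exact (Nat.eq_of_mul_eq_mul_left (Nat.succ_pos n) h2').symm
  have hJ1 : ∀ γ : F, γ ≠ 0 → ∑ a, N0 ρ a 0 γ 0 = 1 := fun γ hγ => by
    have := hJ γ hγ; rw [hk1, hL1, mul_one] at this; omega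
  have hz00 : Rz ρ 0 0 0 = N0 ρ 0 0 0 0 + n + n * (n + 1) := by
    rw [Rz_zero ρ h3, Finset.sum_comm,
      sum_split' (fun d => ∑ a, N0 ρ a 0 0 d) (v := n + 1) fun d hd0 => by
        rw [line_w4 ρ h3 d hd0, hn, ← hPj d hd0, hPj1, mul_one],
      sum_split' (fun a => N0 ρ a 0 0 0) (v := 1) hbot, hsub, mul_one]
  have h810 : ∀ α : F, α ≠ 0 →
      rk ρ f711 (fun t => chi0 F (α * t.1 + 0 * t.2)) = (n + 1) + n + n * (n + 1) := by
    intro α hα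
    rw [rk_711_810, neg_zero, ← sum_R8b_top,
      sum_split' (fun c => R8b ρ α 0 c) (v := n + 1) fun c hc => by
        refine Nat.eq_of_mul_eq_mul_left (Nat.succ_pos n) ?_
        have h := sum_R8b_mid ρ α c
        rw [Finset.sum_congr rfl fun δ _ => R8b_eq_zero ρ hc α δ, Finset.sum_const, Finset.card_univ,
          smul_eq_mul, ← sum_Rz_right ρ h3, Finset.sum_congr rfl fun b _ => hz1 α b c hc (Or.inl hα),
          Finset.sum_const, Finset.card_univ, smul_eq_mul, hn] at h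
        rw [h],
      R8b_zero, Finset.sum_comm,
      sum_split' (fun b => ∑ a, N0 ρ a α b 0) (v := 1) (fun b hb => by
        rw [sum_w3 ρ h3 α hb, hJ1 b hb]), fibre_line ρ h3 hα, hn, ← hfib α hα, hk1, Nat.add_sub_cancel, mul_one]
  have hF := trivial_weight_lb ρ h3 hbot (fun a b d hb hd0 => hbig b a d hb hd0) h810
    (A := n + n + n * (n + 1)) (by rw [hNZ0, hz00, hk1, hn, Nat.add_sub_cancel]; ring)
  rw [hsub, show (n + 1) + n + n * (n + 1) - (n + n + n * (n + 1)) = 1 by omega, mul_one] at hF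
  rw [hz00, hk1]
  nlinarith

end CfsgLib.G2Deg
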