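import Cfsg.Agent.Lib.Geo.G2MinDeg.FOne
import Cfsg.Agent.Lib.Geo.G2MinDeg.Three

/-!
# Degrees of representations of `G₂(q)`

Owner: helper23.
-/

set_option autoImplicit false

namespace CfsgLib.G2Deg

open Module CfsgLib.SLMinDeg CfsgLib.HallGen.ChevG2

theorem card_mod_three {F : Type*} [Field F] [Fintype F] :
    (3 : F) = 0 ↔ Fintype.card F % 3 = 0 := by
  obtain ⟨p, hp⟩ := CharP.exists F
  obtain ⟨n, hpp, hn⟩ := FiniteField.card F p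
  rw [hn]
  constructor
  · intro h
    have h3 : ((3 : ℕ) : F) = 0 := by exact_mod_cast h
    rw [CharP.cast_eq_zero_iff F p, Nat.prime_dvd_prime_iff_eq hpp Nat.prime_three] at h3
    subst h3
    exact Nat.mod_eq_zero_of_dvd (dvd_pow_self 3 n.ne_zero)
  · intro h
    have h3 := Nat.prime_three.dvd_of_dvd_pow (Nat.dvd_of_mod_eq_zero h)
    rw [Nat.prime_dvd_prime_iff_eq Nat.prime_three hpp] at h3
    subst h3
    exact_mod_cast CharP.cast_eq_zero F 3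

theorem not_div_sub_two {q : ℕ} (hq : 9 ≤ q) :
    ¬ ((q : ℤ) ^ 4 + q ^ 2 - 2) ∣ (q : ℤ) ^ 6 * (((q : ℤ) ^ 2 - 1) * ((q : ℤ) ^ 6 - 1)) := by
  intro h
  have h1 : (q : ℤ) ^ 2 + 2 ∣ (q : ℤ) ^ 4 + q ^ 2 - 2 := ⟨(q : ℤ) ^ 2 - 1, by ring⟩
  have h2 := h1.trans h
  have h3 : (q : ℤ) ^ 2 + 2 ∣ (q : ℤ) ^ 6 * (((q : ℤ) ^ 2 - 1) * ((q : ℤ) ^ 6 - 1)) + 216 :=
    ⟨(q : ℤ) ^ 12 - 3 * (q : ℤ) ^ 10 + 6 * (q : ℤ) ^ 8 - 13 * (q : ℤ) ^ 6 + 27 * (q : ℤ) ^ 4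
      - 54 * (q : ℤ) ^ 2 + 108, by ring⟩
  have h4 : (q : ℤ) ^ 2 + 2 ∣ ((216 : ℕ) : ℤ) := by simpa using (Int.dvd_add_right h2).1 h3
  have h5 : q ^ 2 + 2 ∣ 216 := by rw [← Int.natCast_dvd_natCast]; exact_mod_cast h4
  have h6 := Nat.le_of_dvd (by norm_num) h5
  have h7 : q ≤ 14 := by
    by_contra hcon
    have := Nat.pow_le_pow_left (show 15 ≤ q by omega) 2
    omega
  interval_cases q <;> norm_num at h5

theorem not_div_sub_one {q : ℕ} (hq : 9 ≤ q) :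
    ¬ ((q : ℤ) ^ 4 + q ^ 2 - 1) ∣ (q : ℤ) ^ 6 * (((q : ℤ) ^ 2 - 1) * ((q : ℤ) ^ 6 - 1)) := by
  intro h
  have h3 : (q : ℤ) ^ 4 + q ^ 2 - 1 ∣
      (q : ℤ) ^ 6 * (((q : ℤ) ^ 2 - 1) * ((q : ℤ) ^ 6 - 1)) - (26 * (q : ℤ) ^ 2 - 16) :=
    ⟨(q : ℤ) ^ 10 - 2 * (q : ℤ) ^ 8 + 3 * (q : ℤ) ^ 6 - 6 * (q : ℤ) ^ 4 + 10 * (q : ℤ) ^ 2 - 16,
      by ring⟩
  have h4 := (dvd_sub h h3)
  rw [sub_sub_cancel] at h4
  have hq2 : (81 : ℤ) ≤ (q : ℤ) ^ 2 := by exact_mod_cast Nat.pow_le_pow_left hq 2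
  have h5 := Int.le_of_dvd (by linarith) h4
  nlinarith

theorem not_div_sub_zero {q : ℕ} (hq : 9 ≤ q) :
    ¬ ((q : ℤ) ^ 4 + q ^ 2) ∣ (q : ℤ) ^ 6 * (((q : ℤ) ^ 2 - 1) * ((q : ℤ) ^ 6 - 1)) := by
  intro h
  have h1 : (q : ℤ) ^ 2 + 1 ∣ (q : ℤ) ^ 4 + q ^ 2 := ⟨(q : ℤ) ^ 2, by ring⟩
  have h3 : (q : ℤ) ^ 2 + 1 ∣ (q : ℤ) ^ 6 * (((q : ℤ) ^ 2 - 1) * ((q : ℤ) ^ 6 - 1)) + 4 :=
    ⟨(q : ℤ) ^ 12 - 2 * (q : ℤ) ^ 10 + 2 * (q : ℤ) ^ 8 - 3 * (q : ℤ) ^ 6 + 4 * (q : ℤ) ^ 4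
      - 4 * (q : ℤ) ^ 2 + 4, by ring⟩
  have h4 := Int.le_of_dvd (by norm_num) ((Int.dvd_add_right (h1.trans h)).1 h3)
  have hq2 : (81 : ℤ) ≤ (q : ℤ) ^ 2 := by exact_mod_cast Nat.pow_le_pow_left hq 2
  linarith

variable {F : Type*} [Field F] [Fintype F] {V : Type*} [AddCommGroup V] [Module ℂ V]
  [FiniteDimensional ℂ V] (ρ : Representation ℂ (GG F) V)

theorem bound_or_small [ρ.IsIrreducible] (h3 : (3 : F) ≠ 0) (hq : 5 ≤ Fintype.card F)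
    (hd : 2 ≤ finrank ℂ V) : Fintype.card F ^ 3 + 1 ≤ finrank ℂ V ∨ Small ρ := by
  classical
  have hm := N3_pos ρ h3 (by omega) hd
  by_cases h1 : N3 ρ 0 0 1 = 1
  · exact Or.inr (small_of_m1 ρ h3 hq h1)
  left
  rw [dim_eq ρ h3]
  obtain ⟨n, hn⟩ : ∃ n, Fintype.card F = n + 1 := ⟨Fintype.card F - 1, by omega⟩
  rw [hn, Nat.add_sub_cancel]
  nlinarith [Nat.mul_le_mul_left (n * (n + 1) * (n + 2)) (show 2 ≤ N3 ρ 0 0 1 by omega),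
    Nat.mul_le_mul_left (n * n) (show 4 ≤ n by omega)]

/-- The degree bounds. -/
theorem degree_bound [ρ.IsIrreducible] (hd : 2 ≤ finrank ℂ V) :
    (Fintype.card F % 3 = 1 → 4 < Fintype.card F → Fintype.card F ^ 3 + 1 ≤ finrank ℂ V) ∧
    (Fintype.card F % 3 = 2 → 2 < Fintype.card F → Fintype.card F ^ 3 - 1 ≤ finrank ℂ V) ∧
    (Fintype.card F % 3 = 0 → 3 < Fintype.card F →
      Fintype.card F ^ 4 + Fintype.card F ^ 2 + 1 ≤ finrank ℂ V) := by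
  refine ⟨fun hm hq => ?_, fun hm hq => ?_, fun hm hq => ?_⟩
  · have h3 : (3 : F) ≠ 0 := fun h => by have := card_mod_three.1 h; omega
    rcases bound_or_small ρ h3 (by omega) hd with h | hS
    · exact h
    · have h0 := N0_ne_zero ρ hS hm (by omega)
      have h1 : N0 ρ 0 0 0 0 ≠ 1 := fun e => not_smallOne ⟨hS, e⟩
      have := hS.dim
      omega
  · have h3 : (3 : F) ≠ 0 := fun h => by have := card_mod_three.1 h; omega
    rcases bound_or_small ρ h3 (by omega) hd with h | hS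
    · omega
    · have := hS.dim; omega
  · have h3 : (3 : F) = 0 := card_mod_three.2 hm
    obtain ⟨n, -, hn⟩ := FiniteField.card F (ringChar F)
    have hp : ringChar F = 3 := (CharP.ringChar_of_prime_eq_zero Nat.prime_three (by exact_mod_cast h3))
    rw [hp] at hn
    have h9 : 9 ≤ Fintype.card F := by
      rw [hn] at hq ⊢
      have : 2 ≤ (n : ℕ) := by
        by_contra hcon
        have h1 : (n : ℕ) = 1 := by have := n.pos; omega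
        rw [h1] at hq
        omega
      exact le_trans (by norm_num : (9 : ℕ) ≤ 3 ^ 2) (Nat.pow_le_pow_right (by norm_num) this)
    have hb := three_bound ρ h3 h9 hd
    haveI : Finite (GG F) := (CfsgLib.Lie.Chev.chevRel CfsgLib.Lie.Chev.certG2 F).Finite_of_field
    have hdvd := CfsgLib.CharIntegral.finrank_dvd_card ρ
    rw [card_GG, ← Int.natCast_dvd_natCast] at hdvd
    push_cast [Nat.cast_sub (Nat.one_le_pow 2 _ (Fintype.card_pos (α := F))),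
      Nat.cast_sub (Nat.one_le_pow 6 _ (Fintype.card_pos (α := F)))] at hdvd
    by_contra hcon
    have hcases : (finrank ℂ V : ℤ) = (Fintype.card F : ℤ) ^ 4 + (Fintype.card F : ℤ) ^ 2 - 2 ∨
        (finrank ℂ V : ℤ) = (Fintype.card F : ℤ) ^ 4 + (Fintype.card F : ℤ) ^ 2 - 1 ∨
        (finrank ℂ V : ℤ) = (Fintype.card F : ℤ) ^ 4 + (Fintype.card F : ℤ) ^ 2 := by
      have e4 : ((Fintype.card F ^ 4 : ℕ) : ℤ) = (Fintype.card F : ℤ) ^ 4 := Nat.cast_pow _ _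
      have e2 : ((Fintype.card F ^ 2 : ℕ) : ℤ) = (Fintype.card F : ℤ) ^ 2 := Nat.cast_pow _ _
      omega
    rcases hcases with h | h | h <;> rw [h] at hdvd
    · exact not_div_sub_two h9 hdvd
    · exact not_div_sub_one h9 hdvd
    · exact not_div_sub_zero h9 hdvd

end CfsgLib.G2Deg
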