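import Cfsg.Agent.Lib.Geo.G2MinDeg.Weights
import Mathlib.RingTheory.IntegralDomain

/-!
# The weights when three is invertible

Owner: helper23.
-/

set_option autoImplicit false

namespace CfsgLib.G2Deg

open Module CfsgLib.SLMinDeg CfsgLib.HallGen.ChevG2

variable {F : Type*} [Field F] [Fintype F] {V : Type*} [AddCommGroup V] [Module ℂ V]
  [FiniteDimensional ℂ V] (ρ : Representation ℂ (GG F) V)

theorem exists_unit_torus (hq : 5 ≤ Fintype.card F) : ∃ τ : Fˣ, τ ^ 2 ≠ 1 ∧ τ ^ 3 ≠ 1 := by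
  classical
  obtain ⟨g, hg⟩ := IsCyclic.exists_ofOrder_eq_natCard (α := Fˣ)
  have hn : orderOf g = Fintype.card F - 1 := by
    rw [hg, Nat.card_eq_fintype_card, Fintype.card_units]
  have h := fun k (hk0 : k ≠ 0) (hk : k < 4) => pow_ne_one_of_lt_orderOf hk0 (x := g) (n := k) (by omega)
  exact ⟨g, h 2 (by norm_num) (by norm_num), h 3 (by norm_num) (by norm_num)⟩

theorem N3_eq_zero (h3 : (3 : F) ≠ 0) {c : F} (hc : c ≠ 0) (β γ : F) :
    N3 ρ β γ c = N3 ρ 0 0 c := by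
  have h1 := N3_x10 ρ (-(β / c)) β γ c
  have h2 := N3_x9 ρ (-(γ / (3 * c))) 0 γ c
  rw [show β + -(β / c) * c = 0 by field_simp; ring] at h1
  rw [show γ + 3 * -(γ / (3 * c)) * c = 0 by field_simp; ring] at h2
  rw [← h1, ← h2]

theorem N3_const {c : F} (hc : c ≠ 0) : N3 ρ 0 0 c = N3 ρ 0 0 1 := by
  have := N3_tor ρ (Units.mk0 c hc) (Units.mk0 c hc)⁻¹ 0 0 1
  simp only [mul_zero, Units.val_mk0, Units.val_inv_eq_inv_val, mul_one] at this
  rwa [show c ^ 3 * c⁻¹ ^ 2 = c by field_simp] at this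

theorem NZ_eq_of_ne (h3 : (3 : F) ≠ 0) {c : F} (hc : c ≠ 0) :
    NZ ρ c = Fintype.card F * (Fintype.card F * N3 ρ 0 0 1) := by
  rw [← sum_N3 ρ c, Finset.sum_congr rfl fun β _ => Finset.sum_congr rfl fun γ _ =>
    N3_eq_zero ρ h3 hc β γ, N3_const ρ hc]
  simp

theorem N2_eq_of_ne (h3 : (3 : F) ≠ 0) {s : F} (hs : s ≠ 0) :
    N2 ρ s 0 = Fintype.card F * N3 ρ 0 0 1 := by
  have h := card_mul_N2 ρ hs
  rw [NZ_eq_of_ne ρ h3 hs, Nat.mul_left_cancel_iff Fintype.card_pos] at h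
  rw [N2_top, h]

theorem dim_eq (h3 : (3 : F) ≠ 0) [DecidableEq F] :
    finrank ℂ V = N2 ρ 0 0 + (Fintype.card F - 1) * (Fintype.card F * N3 ρ 0 0 1) +
      (Fintype.card F - 1) * (Fintype.card F * (Fintype.card F * N3 ρ 0 0 1)) := by
  have hcard : (Finset.univ.filter fun c : F => c ≠ 0).card = Fintype.card F - 1 := by
    rw [Finset.filter_ne', Finset.card_erase_of_mem (Finset.mem_univ _), Finset.card_univ]
  rw [sum_NZ_split ρ, Finset.sum_congr rfl fun c hc => NZ_eq_of_ne ρ h3 (Finset.mem_filter.1 hc).2,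
    Finset.sum_const, hcard, smul_eq_mul]
  congr 1
  rw [← sum_N2 ρ 0, ← Finset.sum_filter_add_sum_filter_not _ (fun c : F => c = 0),
    Finset.filter_eq', if_pos (Finset.mem_univ _), Finset.sum_singleton,
    Finset.sum_congr rfl fun c hc => N2_eq_of_ne ρ h3 (Finset.mem_filter.1 hc).2,
    Finset.sum_const, hcard, smul_eq_mul]

theorem N3_pos [ρ.IsIrreducible] (h3 : (3 : F) ≠ 0) (hq : 2 < Fintype.card F)
    (hd : 2 ≤ finrank ℂ V) : 1 ≤ N3 ρ 0 0 1 := by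
  obtain ⟨c, hc, hn⟩ := exists_NZ_ne ρ hq hd
  rw [NZ_eq_of_ne ρ h3 hc] at hn
  exact Nat.one_le_iff_ne_zero.2 fun h => hn (by rw [h, mul_zero, mul_zero])

theorem exists_of_sum_eq_one {ι : Type*} [Fintype ι] (f : ι → ℕ) (h : ∑ i, f i = 1) :
    ∃ i, f i = 1 ∧ ∀ j, f j ≠ 0 → j = i := by
  classical
  obtain ⟨i, -, hi⟩ := Finset.exists_ne_zero_of_sum_ne_zero (h ▸ one_ne_zero)
  have hle : ∀ j, f i + (if j = i then 0 else f j) ≤ 1 := fun j => by
    split_ifs with e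
    · exact h ▸ (Finset.single_le_sum (fun k _ => Nat.zero_le (f k)) (Finset.mem_univ i))
    · rw [← h, ← Finset.sum_pair (Ne.symm e)]
      exact Finset.sum_le_sum_of_subset (Finset.subset_univ _)
  refine ⟨i, ?_, fun j hj => ?_⟩
  · have := hle i; rw [if_pos rfl] at this; omega
  · by_contra e
    have := hle j; rw [if_neg e] at this; omega

/-- The smallest configuration of weights. -/
structure Small : Prop where
  three : (3 : F) ≠ 0
  five : 5 ≤ Fintype.card F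
  m1 : N3 ρ 0 0 1 = 1
  top : ∀ s : F, s ≠ 0 → N0 ρ 0 0 0 s = 1
  top_only : ∀ w₁ w₂ w₃ s : F, s ≠ 0 → N0 ρ w₁ w₂ w₃ s ≠ 0 →
    ∃ u : F, w₁ = -(u ^ 3 * s) ∧ w₂ = -(3 * u ^ 2 * s) ∧ w₃ = -(3 * u * s)
  bot : ∀ β : F, β ≠ 0 → N0 ρ β 0 0 0 = 1
  bot_only : ∀ w₁ w₂ w₃ : F, N0 ρ w₁ w₂ w₃ 0 ≠ 0 → w₂ = 0 ∧ w₃ = 0
  dim : finrank ℂ V + 1 = Fintype.card F ^ 3 + N0 ρ 0 0 0 0

theorem small_of_m1 (h3 : (3 : F) ≠ 0) (hq : 5 ≤ Fintype.card F) (hm : N3 ρ 0 0 1 = 1) :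
    Small ρ := by
  classical
  obtain ⟨τ, hτ2, hτ3⟩ := exists_unit_torus hq
  have hsum : ∀ s : F, s ≠ 0 → ∑ p : F × F, N0 ρ p.1 p.2 0 s = 1 := by
    intro s hs
    have hP : ∀ w₃ : F, ∑ w₁, ∑ w₂, N0 ρ w₁ w₂ w₃ s = ∑ w₁, ∑ w₂, N0 ρ w₁ w₂ 0 s := by
      intro w₃
      rw [← Fintype.sum_prod_type' (f := fun w₁ w₂ => N0 ρ w₁ w₂ w₃ s),
        ← Fintype.sum_prod_type' (f := fun w₁ w₂ => N0 ρ w₁ w₂ 0 s)]
      set u : F := w₃ / (3 * s) with hu
      let e : F × F ≃ F × F :=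
        { toFun := fun p => (p.1 + u * p.2 + u ^ 2 * w₃ - u ^ 3 * s, p.2 + 2 * u * w₃ - 3 * u ^ 2 * s)
          invFun := fun p => (p.1 - u * (p.2 - 2 * u * w₃ + 3 * u ^ 2 * s) - u ^ 2 * w₃ + u ^ 3 * s,
            p.2 - 2 * u * w₃ + 3 * u ^ 2 * s)
          left_inv := fun p => Prod.ext (by ring) (by ring)
          right_inv := fun p => Prod.ext (by ring) (by ring) }
      refine Fintype.sum_equiv e _ _ fun p => ?_
      rw [← N0_x7 ρ u p.1 p.2 w₃ s, show w₃ - 3 * u * s = 0 by rw [hu]; field_simp; ring]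
      rfl
    have h := sum_N0_top ρ s
    rw [N2_eq_of_ne ρ h3 hs, hm, mul_one, Finset.sum_congr rfl (fun w₁ _ => Finset.sum_comm),
      Finset.sum_comm, Finset.sum_congr rfl (fun w₃ _ => hP w₃), Finset.sum_const, Finset.card_univ,
      smul_eq_mul] at h
    rw [Fintype.sum_prod_type]
    exact Nat.eq_of_mul_eq_mul_left Fintype.card_pos (by rw [h, mul_one])
  have hzero : ∀ s : F, s ≠ 0 →
      N0 ρ 0 0 0 s = 1 ∧ ∀ a b : F, N0 ρ a b 0 s ≠ 0 → a = 0 ∧ b = 0 := by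
    intro s hs
    obtain ⟨⟨a, b⟩, hab, huniq⟩ := exists_of_sum_eq_one _ (hsum s hs)
    have ht := N0_tor ρ τ (τ⁻¹ ^ 3) a b 0 s
    simp only [Units.val_pow_eq_pow_val, Units.val_inv_eq_inv_val, mul_zero] at ht
    rw [show (τ : F) ^ 3 * (τ : F)⁻¹ ^ 3 * s = s by field_simp] at ht
    have h := huniq (((τ : F)⁻¹) ^ 3 * a, (τ : F) * ((τ : F)⁻¹) ^ 3 * b) (by
      dsimp only
      rw [ht, hab]
      exact one_ne_zero)
    simp only [Prod.mk.injEq] at h
    have n2 : (τ : F) ^ 2 ≠ 1 := fun e => hτ2 (Units.ext (by simpa using e))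
    have n3 : (τ : F) ^ 3 ≠ 1 := fun e => hτ3 (Units.ext (by simpa using e))
    have ha : a = 0 := by
      have : ((τ : F) ^ 3 - 1) * a = 0 := by
        have h1 : a = (τ : F) ^ 3 * a := by
          conv_rhs => rw [← h.1]
          field_simp
        linear_combination -h1
      exact (mul_eq_zero.1 this).resolve_left (sub_ne_zero.2 n3)
    have hb : b = 0 := by
      have : ((τ : F) ^ 2 - 1) * b = 0 := by
        have h1 : b = (τ : F) ^ 2 * b := by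
          conv_rhs => rw [← h.2]
          field_simp
        linear_combination -h1
      exact (mul_eq_zero.1 this).resolve_left (sub_ne_zero.2 n2)
    subst ha; subst hb
    exact ⟨hab, fun x y hxy => Prod.mk.injEq _ _ _ _ ▸ huniq (x, y) hxy⟩
  have htop : ∀ w₁ w₂ w₃ s : F, s ≠ 0 → N0 ρ w₁ w₂ w₃ s ≠ 0 →
      ∃ u : F, w₁ = -(u ^ 3 * s) ∧ w₂ = -(3 * u ^ 2 * s) ∧ w₃ = -(3 * u * s) := by
    intro w₁ w₂ w₃ s hs hw
    set v : F := w₃ / (3 * s) with hv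
    rw [← N0_x7 ρ v, show w₃ - 3 * v * s = 0 by rw [hv]; field_simp; ring] at hw
    obtain ⟨h1, h2⟩ := (hzero s hs).2 _ _ hw
    have h0 : w₃ = 3 * v * s := by rw [hv]; field_simp
    refine ⟨-v, ?_, ?_, ?_⟩
    · linear_combination h1 - v * h2 + v ^ 2 * h0
    · linear_combination h2 - 2 * v * h0
    · linear_combination h0
  have hbot : ∀ β : F, β ≠ 0 → N0 ρ β 0 0 0 = 1 := fun β hβ => by
    have := N0_na ρ β 0 0 0
    rw [neg_zero] at this
    rw [← this]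
    exact (hzero (-β) (neg_ne_zero.2 hβ)).1
  have hbotonly : ∀ w₁ w₂ w₃ : F, N0 ρ w₁ w₂ w₃ 0 ≠ 0 → w₂ = 0 ∧ w₃ = 0 := by
    intro w₁ w₂ w₃ hw
    by_contra hcon
    obtain ⟨a, ha0, ha1⟩ := exists_ne_zero_one (F := F) (by omega)
    have key : ∀ u : F, w₁ + u * w₂ + u ^ 2 * w₃ = 0 := by
      intro u
      by_contra hne
      have h := hw
      rw [← N0_x7 ρ u, ← N0_na ρ] at h
      simp only [mul_zero, sub_zero] at h
      obtain ⟨t, h1, h2, h3'⟩ := htop _ _ _ _ (neg_ne_zero.2 hne) h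
      have ht : t = 0 := by
        rcases mul_eq_zero.1 (neg_eq_zero.1 h1.symm) with e | e
        · exact pow_eq_zero_iff (by norm_num) |>.1 e
        · exact absurd e (neg_ne_zero.2 hne)
      subst ht
      simp at h2 h3'
      subst h2
      exact hcon ⟨by simpa using h3', rfl⟩
    have k0 := key 0
    have k1 := key 1
    have ka := key a
    have e3 : a * (a - 1) * w₃ = 0 := by linear_combination ka - a * k1 + (a - 1) * k0
    have hw3 : w₃ = 0 := (mul_eq_zero.1 e3).resolve_left (mul_ne_zero ha0 (sub_ne_zero.2 ha1))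
    exact hcon ⟨by linear_combination k1 - k0 - hw3, hw3⟩
  refine ⟨h3, hq, hm, fun s hs => (hzero s hs).1, htop, hbot, hbotonly, ?_⟩
  have hN : N2 ρ 0 0 + 1 = Fintype.card F + N0 ρ 0 0 0 0 := by
    have h0 : ∀ w₁, ∑ w₂, ∑ w₃, N0 ρ w₁ w₂ w₃ 0 = N0 ρ w₁ 0 0 0 := fun w₁ => by
      rw [Finset.sum_eq_single (0 : F) (fun w₂ _ h2 => Finset.sum_eq_zero fun w₃ _ => by
          by_contra e; exact h2 (hbotonly _ _ _ e).1) (by simp),
        Finset.sum_eq_single (0 : F) (fun w₃ _ h3 => by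
          by_contra e; exact h3 (hbotonly _ _ _ e).2) (by simp)]
    rw [← sum_N0_top ρ 0, Finset.sum_congr rfl fun w₁ _ => h0 w₁,
      ← Finset.add_sum_erase _ _ (Finset.mem_univ (0 : F)),
      Finset.sum_congr rfl fun b hb => hbot b (Finset.ne_of_mem_erase hb),
      Finset.sum_const, Finset.card_erase_of_mem (Finset.mem_univ _), Finset.card_univ, smul_eq_mul,
      mul_one]
    omega
  rw [dim_eq ρ h3, hm]
  obtain ⟨n, hn⟩ : ∃ n, Fintype.card F = n + 1 := ⟨Fintype.card F - 1, by omega⟩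
  rw [hn] at hN ⊢
  simp only [Nat.add_sub_cancel]
  linear_combination hN

end CfsgLib.G2Deg
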