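import Cfsg.Agent.Lib.Geo.G2MinDeg.Conj
import Cfsg.Agent.Lib.Geo.G2MinDeg.Idem

/-!
# Weights of the radical of the first parabolic

Owner: helper23.
-/

set_option autoImplicit false

namespace CfsgLib.G2Deg

open Module CfsgLib.SLMinDeg CfsgLib.HallGen.ChevG2

variable {F : Type*} [Field F] [Fintype F] {V : Type*} [AddCommGroup V] [Module ℂ V]
  (ρ : Representation ℂ (GG F) V)

theorem chi0_neg (x : F) : chi0 F (-x) = (chi0 F x)⁻¹ := AddChar.map_neg_eq_inv _ x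

theorem chi0_ne (x : F) : chi0 F x ≠ 0 := by
  intro h
  have := AddChar.map_add_eq_mul (chi0 F) x (-x)
  rw [h, zero_mul, add_neg_cancel, AddChar.map_zero_eq_one] at this
  exact one_ne_zero this

theorem avg_one (f : F → GG F) (a : F) :
    avg ρ f (fun t => chi0 F (a * t)) = FT (fun t => ρ (f t)) a := by
  simp [avg, FT, chi0_neg]

theorem avg_two (f : F × F → GG F) (a b : F) :
    avg ρ f (fun t => chi0 F (a * t.1 + b * t.2)) =
      FT (fun t => FT (fun u => ρ (f (t, u))) b) a := by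
  simp only [avg, FT, Fintype.sum_prod_type, Finset.smul_sum, smul_smul, Fintype.card_prod]
  refine Finset.sum_congr rfl fun t _ => Finset.sum_congr rfl fun u _ => ?_
  congr 1
  simp only [chi0_neg, AddChar.map_add_eq_mul, mul_inv, Nat.cast_mul]
  ring

theorem avg_three (f : F × F × F → GG F) (a b c : F) :
    avg ρ f (fun t => chi0 F (a * t.1 + b * t.2.1 + c * t.2.2)) =
      FT (fun t => FT (fun u => FT (fun z => ρ (f (t, u, z))) c) b) a := by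
  simp only [avg, FT, Fintype.sum_prod_type, Finset.smul_sum, smul_smul, Fintype.card_prod]
  refine Finset.sum_congr rfl fun t _ => Finset.sum_congr rfl fun u _ =>
    Finset.sum_congr rfl fun z _ => ?_
  congr 1
  simp only [chi0_neg, AddChar.map_add_eq_mul, mul_inv, Nat.cast_mul]
  ring

/-- Coordinates on the radical. -/
abbrev T5 (F : Type*) : Type _ := F × F × F × F × F

/-- The radical as a family. -/
noncomputable def qf (t : T5 F) : GG F := qel t.1 t.2.1 t.2.2.1 t.2.2.2.1 t.2.2.2.2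

/-- A linear character of the radical. -/
noncomputable def th (w₁ w₂ w₃ w₄ : F) (t : T5 F) : ℂ :=
  chi0 F (w₁ * t.1 + w₂ * t.2.1 + w₃ * t.2.2.1 + w₄ * t.2.2.2.1)

omit [Fintype F] in
theorem qf_injective : Function.Injective (qf (F := F)) := by
  intro t u h
  simp only [qf, qel_eq_uel] at h
  obtain ⟨h1, -, h2, h3, h4, h5⟩ := uel_inj h
  exact Prod.ext h1 (Prod.ext h2 (Prod.ext h3 (Prod.ext h4 h5)))

theorem charOn_th (w₁ w₂ w₃ w₄ : F) : CharOn (qf (F := F)) (th w₁ w₂ w₃ w₄) where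
  inj := qf_injective
  ne t := chi0_ne _
  mul t u := ⟨(t.1 + u.1, t.2.1 + u.2.1, t.2.2.1 + u.2.2.1, t.2.2.2.1 + u.2.2.2.1,
      t.2.2.2.2 + u.2.2.2.2 - t.2.2.2.1 * u.1 - 3 * t.2.2.1 * u.2.1),
    qel_mul _ _ _ _ _ _ _ _ _ _, by
      simp only [th, ← AddChar.map_add_eq_mul]
      congr 1
      ring⟩

/-- The projection to a weight of the radical. -/
noncomputable def E0 (w₁ w₂ w₃ w₄ : F) : Module.End ℂ V := avg ρ qf (th w₁ w₂ w₃ w₄)

theorem E0_eq (w₁ w₂ w₃ w₄ : F) : E0 ρ w₁ w₂ w₃ w₄ =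
    FT (fun a => FT (fun b => FT (fun c => FT (fun d => FT (fun e => ρ (qel a b c d e)) 0) w₄) w₃) w₂)
      w₁ := by
  simp only [E0, avg, FT, qf, th, Fintype.sum_prod_type, Finset.smul_sum, smul_smul, Fintype.card_prod]
  refine Finset.sum_congr rfl fun a _ => Finset.sum_congr rfl fun b _ =>
    Finset.sum_congr rfl fun c _ => Finset.sum_congr rfl fun d _ =>
    Finset.sum_congr rfl fun e _ => ?_
  congr 1
  simp only [chi0_neg, AddChar.map_add_eq_mul, mul_inv, Nat.cast_mul, zero_mul,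
    AddChar.map_zero_eq_one, inv_one, mul_one]
  ring

/-- The abelian subgroup of `b`, `a+b`, `3a+2b`. -/
noncomputable def f3 (t : F × F × F) : GG F := qel t.1 t.2.1 0 0 t.2.2

/-- The root subgroups of `3a+b`, `3a+2b`. -/
noncomputable def f2 (t : F × F) : GG F := qel 0 0 0 t.1 t.2

theorem charOn_f3 (β γ c : F) :
    CharOn (f3 (F := F)) (fun t => chi0 F (β * t.1 + γ * t.2.1 + c * t.2.2)) where
  inj t u h := by
    simp only [f3, qel_eq_uel] at h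
    obtain ⟨h1, -, h2, -, -, h5⟩ := uel_inj h
    exact Prod.ext h1 (Prod.ext h2 h5)
  ne t := chi0_ne _
  mul t u := ⟨(t.1 + u.1, t.2.1 + u.2.1, t.2.2 + u.2.2), by simp [f3, qel_mul], by
    simp only [← AddChar.map_add_eq_mul]
    congr 1
    ring⟩

theorem charOn_f2 (s c : F) : CharOn (f2 (F := F)) (fun t => chi0 F (s * t.1 + c * t.2)) where
  inj t u h := by
    simp only [f2, qel_eq_uel] at h
    obtain ⟨-, -, -, -, h4, h5⟩ := uel_inj h
    exact Prod.ext h4 h5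
  ne t := chi0_ne _
  mul t u := ⟨(t.1 + u.1, t.2 + u.2), by simp [f2, qel_mul], by
    simp only [← AddChar.map_add_eq_mul]
    congr 1
    ring⟩

theorem charOn_f1 (c : F) : CharOn (fun z : F => xx F 11 z) (fun t => chi0 F (c * t)) where
  inj t u h := by
    simp only [← qel_11, qel_eq_uel] at h
    exact (uel_inj h).2.2.2.2.2
  ne t := chi0_ne _
  mul t u := ⟨t + u, xx_add 11 t u, by rw [mul_add, AddChar.map_add_eq_mul]⟩

/-- The projection to a weight of `b`, `a+b`, `3a+2b`. -/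
noncomputable def E3 (β γ c : F) : Module.End ℂ V :=
  avg ρ f3 (fun t => chi0 F (β * t.1 + γ * t.2.1 + c * t.2.2))

/-- The projection to a weight of `3a+b`, `3a+2b`. -/
noncomputable def E2 (s c : F) : Module.End ℂ V :=
  avg ρ f2 (fun t => chi0 F (s * t.1 + c * t.2))

/-- The projection to a weight of the centre. -/
noncomputable def EZ (c : F) : Module.End ℂ V :=
  avg ρ (fun z : F => xx F 11 z) (fun t => chi0 F (c * t))

theorem sum_EZ : ∑ c, EZ ρ c = 1 := by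
  simp only [EZ, avg_one, sum_FT, xx_zero, map_one]

theorem sum_E3 (c : F) : ∑ β, ∑ γ, E3 ρ β γ c = EZ ρ c := by
  simp only [EZ, E3, avg_one, avg_three, f3, ← FT_sum, sum_FT, qel_11]

theorem sum_E2 (c : F) : ∑ s, E2 ρ s c = EZ ρ c := by
  simp only [EZ, E2, avg_one, avg_two, f2, ← FT_sum, sum_FT, qel_11]

theorem sum_E0_top (s : F) : ∑ w₁, ∑ w₂, ∑ w₃, E0 ρ w₁ w₂ w₃ s = E2 ρ s 0 := by
  simp only [E2, avg_two, f2, E0_eq, ← FT_sum, sum_FT]

theorem sum_E0 : ∑ w₁, ∑ w₂, ∑ w₃, ∑ w₄, E0 ρ w₁ w₂ w₃ w₄ = EZ ρ 0 := by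
  simp only [EZ, avg_one, E0_eq, ← FT_sum, sum_FT, qel_11]

variable [FiniteDimensional ℂ V]

/-- The multiplicity of a weight of the radical. -/
noncomputable def N0 (w₁ w₂ w₃ w₄ : F) : ℕ := finrank ℂ (LinearMap.range (E0 ρ w₁ w₂ w₃ w₄))

/-- The multiplicity of a weight of `b`, `a+b`, `3a+2b`. -/
noncomputable def N3 (β γ c : F) : ℕ := finrank ℂ (LinearMap.range (E3 ρ β γ c))

/-- The multiplicity of a weight of `3a+b`, `3a+2b`. -/
noncomputable def N2 (s c : F) : ℕ := finrank ℂ (LinearMap.range (E2 ρ s c))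

/-- The multiplicity of a weight of the centre. -/
noncomputable def NZ (c : F) : ℕ := finrank ℂ (LinearMap.range (EZ ρ c))

theorem trace_E0 (w₁ w₂ w₃ w₄ : F) :
    LinearMap.trace ℂ V (E0 ρ w₁ w₂ w₃ w₄) = (N0 ρ w₁ w₂ w₃ w₄ : ℂ) :=
  trace_avg ρ (charOn_th _ _ _ _)

theorem trace_E3 (β γ c : F) : LinearMap.trace ℂ V (E3 ρ β γ c) = (N3 ρ β γ c : ℂ) :=
  trace_avg ρ (charOn_f3 _ _ _)

theorem trace_E2 (s c : F) : LinearMap.trace ℂ V (E2 ρ s c) = (N2 ρ s c : ℂ) :=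
  trace_avg ρ (charOn_f2 _ _)

theorem trace_EZ (c : F) : LinearMap.trace ℂ V (EZ ρ c) = (NZ ρ c : ℂ) :=
  trace_avg ρ (charOn_f1 _)

theorem sum_NZ : ∑ c, NZ ρ c = finrank ℂ V := by
  have h := congrArg (LinearMap.trace ℂ V) (sum_EZ ρ)
  simp only [map_sum, trace_EZ, Module.End.one_eq_id, LinearMap.trace_id] at h
  exact_mod_cast h

theorem sum_N3 (c : F) : ∑ β, ∑ γ, N3 ρ β γ c = NZ ρ c := by
  have h := congrArg (LinearMap.trace ℂ V) (sum_E3 ρ c)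
  simp only [map_sum, trace_EZ, trace_E3] at h
  exact_mod_cast h

theorem sum_N2 (c : F) : ∑ s, N2 ρ s c = NZ ρ c := by
  have h := congrArg (LinearMap.trace ℂ V) (sum_E2 ρ c)
  simp only [map_sum, trace_EZ, trace_E2] at h
  exact_mod_cast h

theorem sum_N0_top (s : F) : ∑ w₁, ∑ w₂, ∑ w₃, N0 ρ w₁ w₂ w₃ s = N2 ρ s 0 := by
  have h := congrArg (LinearMap.trace ℂ V) (sum_E0_top ρ s)
  simp only [map_sum, trace_E2, trace_E0] at h
  exact_mod_cast h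

theorem sum_N0 : ∑ w₁, ∑ w₂, ∑ w₃, ∑ w₄, N0 ρ w₁ w₂ w₃ w₄ = NZ ρ 0 := by
  have h := congrArg (LinearMap.trace ℂ V) (sum_E0 ρ)
  simp only [map_sum, trace_EZ, trace_E0] at h
  exact_mod_cast h

omit [FiniteDimensional ℂ V] in
/-- An element normalising the radical permutes the weights. -/
theorem E0_conj (g : GG F) (σ : T5 F → T5 F) (hσ : ∀ t, g * qf t = qf (σ t) * g)
    {w₁ w₂ w₃ w₄ v₁ v₂ v₃ v₄ : F} (hθ : ∀ t, th v₁ v₂ v₃ v₄ (σ t) = th w₁ w₂ w₃ w₄ t) :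
    ρ g * E0 ρ w₁ w₂ w₃ w₄ = E0 ρ v₁ v₂ v₃ v₄ * ρ g := by
  have hinj : Function.Injective σ := fun t u e => qf_injective (mul_left_cancel (a := g) (by
    rw [hσ, hσ, e]))
  exact conj_avg ρ g (Equiv.ofBijective σ (Finite.injective_iff_bijective.1 hinj)) hσ hθ

theorem N0_conj (g : GG F) (σ : T5 F → T5 F) (hσ : ∀ t, g * qf t = qf (σ t) * g)
    {w₁ w₂ w₃ w₄ v₁ v₂ v₃ v₄ : F} (hθ : ∀ t, th v₁ v₂ v₃ v₄ (σ t) = th w₁ w₂ w₃ w₄ t) :
    N0 ρ w₁ w₂ w₃ w₄ = N0 ρ v₁ v₂ v₃ v₄ :=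
  rank_eq_of_conj ρ (charOn_th _ _ _ _) (charOn_th _ _ _ _) g (E0_conj ρ g σ hσ hθ)

/-- The action of `x_a(u)`. -/
theorem N0_x7 (u w₁ w₂ w₃ w₄ : F) :
    N0 ρ (w₁ + u * w₂ + u ^ 2 * w₃ - u ^ 3 * w₄) (w₂ + 2 * u * w₃ - 3 * u ^ 2 * w₄)
      (w₃ - 3 * u * w₄) w₄ = N0 ρ w₁ w₂ w₃ w₄ := by
  choose e' he' using fun t : T5 F => qel_x7 u t.1 t.2.1 t.2.2.1 t.2.2.2.1 t.2.2.2.2
  refine N0_conj ρ (xx F 7 u)⁻¹ (fun t => (t.1, t.2.1 + u * t.1,
    t.2.2.1 + 2 * u * t.2.1 + u ^ 2 * t.1,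
    t.2.2.2.1 - 3 * u * t.2.2.1 - 3 * u ^ 2 * t.2.1 - u ^ 3 * t.1, e' t)) (fun t => ?_) fun t => ?_
  · rw [inv_mul_eq_iff_eq_mul, ← mul_assoc, eq_mul_inv_iff_mul_eq]
    exact he' t
  · simp only [th]
    congr 1
    ring

/-- The action of the monomial element of `a`. -/
theorem N0_na (w₁ w₂ w₃ w₄ : F) : N0 ρ w₄ w₃ (-w₂) (-w₁) = N0 ρ w₁ w₂ w₃ w₄ := by
  refine N0_conj ρ (na F) (fun t => (-t.2.2.2.1, -t.2.2.1, t.2.1, t.1,
    t.2.2.2.2 + t.1 * t.2.2.2.1 + 3 * t.2.1 * t.2.2.1))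
    (fun t => qel_na _ _ _ _ _) fun t => ?_
  simp only [th]
  congr 1
  ring

/-- The action of the torus. -/
theorem N0_tor (τ σ : Fˣ) (w₁ w₂ w₃ w₄ : F) :
    N0 ρ ((σ : F) * w₁) ((τ : F) * σ * w₂) ((τ : F) ^ 2 * σ * w₃) ((τ : F) ^ 3 * σ * w₄) =
      N0 ρ w₁ w₂ w₃ w₄ := by
  refine N0_conj ρ (tor F τ σ) (fun t => ((σ : F) * t.1, (τ : F) * σ * t.2.1,
    (τ : F) ^ 2 * σ * t.2.2.1, (τ : F) ^ 3 * σ * t.2.2.2.1,
    (τ : F) ^ 3 * (σ : F) ^ 2 * t.2.2.2.2)) (fun t => qel_tor τ σ _ _ _ _ _) fun t => ?_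
  simp only [th]
  congr 1
  ring

end CfsgLib.G2Deg
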