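import Cfsg.Agent.Lib.HallGen.ChevG2Basic
import Cfsg.Agent.Lib.Geo.G2MinDeg.Fourier

/-!
# Explicit relations between the positive root elements of `G₂`

Owner: helper23. Roots: `7 = a` (short), `6 = b`, `8 = a+b`, `9 = 2a+b`, `10 = 3a+b`, `11 = 3a+2b`.
-/

set_option autoImplicit false

namespace CfsgLib.G2Deg

open Cfsg.Lie CfsgLib.Lie.Chev CfsgLib.HallGen.ChevG2

theorem commTerms_pos :
    chevG2.commTerms 7 6 = [(8, -1, 1, 1), (9, 1, 2, 1), (10, 1, 3, 1), (11, 1, 3, 2)] ∧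
    chevG2.commTerms 7 8 = [(9, -2, 1, 1), (10, -3, 2, 1), (11, 3, 1, 2)] ∧
    chevG2.commTerms 7 9 = [(10, 3, 1, 1)] ∧
    chevG2.commTerms 6 10 = [(11, 1, 1, 1)] ∧
    chevG2.commTerms 8 9 = [(11, 3, 1, 1)] := by
  decide +kernel

theorem commTerms_nil :
    chevG2.commTerms 7 10 = [] ∧ chevG2.commTerms 7 11 = [] ∧ chevG2.commTerms 6 8 = [] ∧
    chevG2.commTerms 6 9 = [] ∧ chevG2.commTerms 6 11 = [] ∧ chevG2.commTerms 8 10 = [] ∧
    chevG2.commTerms 8 11 = [] ∧ chevG2.commTerms 9 10 = [] ∧ chevG2.commTerms 9 11 = [] ∧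
    chevG2.commTerms 10 11 = [] := by
  decide +kernel

theorem ne_neg_pos : ∀ r : Fin 12, ∀ s : Fin 12, 6 ≤ (r : ℕ) → 6 ≤ (s : ℕ) →
    (s : ℕ) ≠ chevG2.neg r := by
  decide +kernel

variable (F : Type*) [Field F]

/-- A root element. -/
noncomputable abbrev xx (r : ℕ) (t : F) : GG F := (RR F).xe r t

variable {F}

theorem xx_add (r : ℕ) (t u : F) : xx F r t * xx F r u = xx F r (t + u) := (RR F).xe_add' r t u

theorem xx_zero (r : ℕ) : xx F r 0 = 1 := (RR F).xe_zero r

theorem xx_neg (r : ℕ) (t : F) : xx F r (-t) = (xx F r t)⁻¹ := (RR F).xe_neg r t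

theorem xx_comm_of (r s : ℕ) (hr : r < 12) (hs : s < 12) (hne : s ≠ r) (hr6 : 6 ≤ r) (hs6 : 6 ≤ s)
    (t u : F) :
    xx F s u * xx F r t =
      xx F r t * xx F s u * ((chevG2.commWord F r s t u).map fun p => xx F p.1 p.2).prod :=
  (RR F).xe_comm r s t u hr hs hne (ne_neg_pos ⟨r, hr⟩ ⟨s, hs⟩ hr6 hs6)

theorem xx_commute {r s : ℕ} (hr : r < 12) (hs : s < 12) (hne : s ≠ r) (hr6 : 6 ≤ r) (hs6 : 6 ≤ s)
    (h : chevG2.commTerms r s = []) (t u : F) : Commute (xx F s u) (xx F r t) := by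
  have := xx_comm_of r s hr hs hne hr6 hs6 t u
  simpa [ChevalleyDatum.commWord, h, Commute, SemiconjBy] using this

theorem comm_7_10 (t u : F) : Commute (xx F 10 u) (xx F 7 t) :=
  xx_commute (r := 7) (s := 10) (by norm_num) (by norm_num) (by norm_num) (by norm_num)
    (by norm_num) commTerms_nil.1 t u

theorem comm_7_11 (t u : F) : Commute (xx F 11 u) (xx F 7 t) :=
  xx_commute (r := 7) (s := 11) (by norm_num) (by norm_num) (by norm_num) (by norm_num)
    (by norm_num) commTerms_nil.2.1 t u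

theorem comm_6_8 (t u : F) : Commute (xx F 8 u) (xx F 6 t) :=
  xx_commute (r := 6) (s := 8) (by norm_num) (by norm_num) (by norm_num) (by norm_num)
    (by norm_num) commTerms_nil.2.2.1 t u

theorem comm_6_9 (t u : F) : Commute (xx F 9 u) (xx F 6 t) :=
  xx_commute (r := 6) (s := 9) (by norm_num) (by norm_num) (by norm_num) (by norm_num)
    (by norm_num) commTerms_nil.2.2.2.1 t u

theorem comm_6_11 (t u : F) : Commute (xx F 11 u) (xx F 6 t) :=
  xx_commute (r := 6) (s := 11) (by norm_num) (by norm_num) (by norm_num) (by norm_num)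
    (by norm_num) commTerms_nil.2.2.2.2.1 t u

theorem comm_8_10 (t u : F) : Commute (xx F 10 u) (xx F 8 t) :=
  xx_commute (r := 8) (s := 10) (by norm_num) (by norm_num) (by norm_num) (by norm_num)
    (by norm_num) commTerms_nil.2.2.2.2.2.1 t u

theorem comm_8_11 (t u : F) : Commute (xx F 11 u) (xx F 8 t) :=
  xx_commute (r := 8) (s := 11) (by norm_num) (by norm_num) (by norm_num) (by norm_num)
    (by norm_num) commTerms_nil.2.2.2.2.2.2.1 t u

theorem comm_9_10 (t u : F) : Commute (xx F 10 u) (xx F 9 t) :=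
  xx_commute (r := 9) (s := 10) (by norm_num) (by norm_num) (by norm_num) (by norm_num)
    (by norm_num) commTerms_nil.2.2.2.2.2.2.2.1 t u

theorem comm_9_11 (t u : F) : Commute (xx F 11 u) (xx F 9 t) :=
  xx_commute (r := 9) (s := 11) (by norm_num) (by norm_num) (by norm_num) (by norm_num)
    (by norm_num) commTerms_nil.2.2.2.2.2.2.2.2.1 t u

theorem comm_10_11 (t u : F) : Commute (xx F 11 u) (xx F 10 t) :=
  xx_commute (r := 10) (s := 11) (by norm_num) (by norm_num) (by norm_num) (by norm_num)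
    (by norm_num) commTerms_nil.2.2.2.2.2.2.2.2.2 t u

/-- The central root subgroup of the first radical commutes with the positive root elements. -/
theorem comm_11 {r : ℕ} (h : r ∈ [6, 7, 8, 9, 10, 11]) (t u : F) :
    Commute (xx F 11 u) (xx F r t) := by
  simp only [List.mem_cons, List.not_mem_nil, or_false] at h
  rcases h with rfl | rfl | rfl | rfl | rfl | rfl
  · exact comm_6_11 t u
  · exact comm_7_11 t u
  · exact comm_8_11 t u
  · exact comm_9_11 t u
  · exact comm_10_11 t u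
  · exact (xx_add 11 u t).trans (by rw [add_comm, ← xx_add])

theorem mul_10_6 (t u : F) : xx F 10 u * xx F 6 t = xx F 6 t * xx F 10 u * xx F 11 (-(t * u)) := by
  have := xx_comm_of (F := F) 6 10 (by norm_num) (by norm_num) (by norm_num) (by norm_num)
    (by norm_num) t u
  simpa [ChevalleyDatum.commWord, commTerms_pos.2.2.2.1] using this

theorem mul_9_8 (t u : F) : xx F 9 u * xx F 8 t = xx F 8 t * xx F 9 u * xx F 11 (-(3 * t * u)) := by
  have := xx_comm_of (F := F) 8 9 (by norm_num) (by norm_num) (by norm_num) (by norm_num)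
    (by norm_num) t u
  simpa [ChevalleyDatum.commWord, commTerms_pos.2.2.2.2, mul_assoc] using this

theorem mul_9_7 (t u : F) : xx F 9 u * xx F 7 t = xx F 7 t * xx F 9 u * xx F 10 (-(3 * t * u)) := by
  have := xx_comm_of (F := F) 7 9 (by norm_num) (by norm_num) (by norm_num) (by norm_num)
    (by norm_num) t u
  simpa [ChevalleyDatum.commWord, commTerms_pos.2.2.1, mul_assoc] using this

theorem mul_8_7 (t u : F) : xx F 8 u * xx F 7 t = xx F 7 t * xx F 8 u *
    (xx F 9 (2 * t * u) * (xx F 10 (-(3 * t ^ 2 * u)) * xx F 11 (-(3 * t * u ^ 2)))) := by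
  have := xx_comm_of (F := F) 7 8 (by norm_num) (by norm_num) (by norm_num) (by norm_num)
    (by norm_num) t u
  simpa [ChevalleyDatum.commWord, commTerms_pos.2.1, mul_assoc] using this

theorem mul_6_7 (t u : F) : xx F 6 u * xx F 7 t = xx F 7 t * xx F 6 u *
    (xx F 8 (t * u) * (xx F 9 (t ^ 2 * u) * (xx F 10 (-(t ^ 3 * u)) * xx F 11 (-(t ^ 3 * u ^ 2))))) := by
  have := xx_comm_of (F := F) 7 6 (by norm_num) (by norm_num) (by norm_num) (by norm_num)
    (by norm_num) t u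
  simpa [ChevalleyDatum.commWord, commTerms_pos.1, mul_assoc,
    Odd.neg_pow (show Odd 3 by decide)] using this

/-- The ordered product of all positive root elements. -/
noncomputable def uel (u₆ u₇ u₈ u₉ u₁₀ u₁₁ : F) : GG F :=
  xx F 6 u₆ * (xx F 7 u₇ * (xx F 8 u₈ * (xx F 9 u₉ * (xx F 10 u₁₀ * xx F 11 u₁₁))))

theorem uel_inj {a b c d e f a' b' c' d' e' f' : F} (h : uel a b c d e f = uel a' b' c' d' e' f') :
    a = a' ∧ b = b' ∧ c = c' ∧ d = d' ∧ e = e' ∧ f = f' := by
  have hh : half chevG2 = 6 := by decide +kernel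
  have key : ∀ x₆ x₇ x₈ x₉ x₁₀ x₁₁ : F, (RR F).oprod (half chevG2) (half chevG2)
      (fun r => [x₆, x₇, x₈, x₉, x₁₀, x₁₁].getD (r - 6) 0) = uel x₆ x₇ x₈ x₉ x₁₀ x₁₁ := by
    intro x₆ x₇ x₈ x₉ x₁₀ x₁₁
    simp [Rel.oprod, hh, List.range'_succ, uel, xx]
  rw [← key, ← key] at h
  have h2 := (RR F).oprod_inj (half chevG2) (half chevG2) _ _ le_rfl (by rw [hh]; decide)
    (congrArg (RR F).θ h)
  rw [hh] at h2
  have g := fun k (hk : 6 ≤ k) (hk' : k < 12) => h2 k hk (by omega)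
  exact ⟨by simpa using g 6 (by norm_num) (by norm_num), by simpa using g 7 (by norm_num) (by norm_num),
    by simpa using g 8 (by norm_num) (by norm_num), by simpa using g 9 (by norm_num) (by norm_num),
    by simpa using g 10 (by norm_num) (by norm_num), by simpa using g 11 (by norm_num) (by norm_num)⟩

/-- The radical of the first parabolic in coordinates. -/
noncomputable def qel (t₁ t₂ t₃ t₄ z : F) : GG F :=
  xx F 6 t₁ * (xx F 8 t₂ * (xx F 9 t₃ * (xx F 10 t₄ * xx F 11 z)))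

theorem qel_eq_uel (t₁ t₂ t₃ t₄ z : F) : qel t₁ t₂ t₃ t₄ z = uel t₁ 0 t₂ t₃ t₄ z := by
  simp [qel, uel, xx_zero]

theorem qel_mul (a b c d e a' b' c' d' e' : F) :
    qel a b c d e * qel a' b' c' d' e' =
      qel (a + a') (b + b') (c + c') (d + d') (e + e' - d * a' - 3 * c * b') := by
  have e11 : ∀ z, ∀ r ∈ [6, 7, 8, 9, 10, 11], ∀ (t : F) (W : GG F),
      xx F 11 z * (xx F r t * W) = xx F r t * (xx F 11 z * W) := fun z r hr t W => by
    rw [← mul_assoc, (comm_11 hr t z).eq, mul_assoc]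
  have h106 : ∀ W : GG F, xx F 10 d * (xx F 6 a' * W) =
      xx F 6 a' * (xx F 10 d * (xx F 11 (-(a' * d)) * W)) := fun W => by
    rw [← mul_assoc, mul_10_6, mul_assoc, mul_assoc]
  have h96 : ∀ W : GG F, xx F 9 c * (xx F 6 a' * W) = xx F 6 a' * (xx F 9 c * W) := fun W => by
    rw [← mul_assoc, (comm_6_9 a' c).eq, mul_assoc]
  have h86 : ∀ W : GG F, xx F 8 b * (xx F 6 a' * W) = xx F 6 a' * (xx F 8 b * W) := fun W => by
    rw [← mul_assoc, (comm_6_8 a' b).eq, mul_assoc]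
  have h108 : ∀ W : GG F, xx F 10 d * (xx F 8 b' * W) = xx F 8 b' * (xx F 10 d * W) := fun W => by
    rw [← mul_assoc, (comm_8_10 b' d).eq, mul_assoc]
  have h98 : ∀ W : GG F, xx F 9 c * (xx F 8 b' * W) =
      xx F 8 b' * (xx F 9 c * (xx F 11 (-(3 * b' * c)) * W)) := fun W => by
    rw [← mul_assoc, mul_9_8, mul_assoc, mul_assoc]
  have h109 : ∀ W : GG F, xx F 10 d * (xx F 9 c' * W) = xx F 9 c' * (xx F 10 d * W) := fun W => by
    rw [← mul_assoc, (comm_9_10 c' d).eq, mul_assoc]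
  have hadd : ∀ (r : ℕ) (t u : F) (W : GG F), xx F r t * (xx F r u * W) = xx F r (t + u) * W :=
    fun r t u W => by rw [← mul_assoc, xx_add]
  simp only [qel, mul_assoc]
  rw [e11 e 6 (by simp), h106, h96, h86, hadd]
  congr 1
  rw [e11 e 8 (by simp), e11 (-(a' * d)) 8 (by simp), h108, h98, hadd]
  congr 1
  rw [e11 e 9 (by simp), e11 (-(a' * d)) 9 (by simp), h109, e11 (-(3 * b' * c)) 9 (by simp), hadd]
  congr 1
  rw [e11 e 10 (by simp), e11 (-(a' * d)) 10 (by simp), e11 (-(3 * b' * c)) 10 (by simp)]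
  rw [e11 (-(3 * b' * c)) 10 (by simp), hadd]
  congr 1
  simp only [xx_add]
  congr 1
  ring

end CfsgLib.G2Deg
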