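import Cfsg.Agent.Lib.Geo.G2MinDeg.ThreeFam

/-!
# Characteristic three: the short roots act nontrivially off the centre

Owner: helper23.
-/

set_option autoImplicit false

namespace CfsgLib.G2Deg

open Module CfsgLib.SLMinDeg CfsgLib.HallGen.ChevG2

section Field

variable {F : Type*} [Field F] [Fintype F]

theorem chi0_nondeg {a : F} (h : ∀ t, chi0 F (a * t) = 1) : a = 0 := by
  classical
  by_contra ha
  have := sum_chi0_mul_left (F := F) a
  rw [if_neg ha, Finset.sum_congr rfl fun t _ => h t, Finset.sum_const, Finset.card_univ,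
    nsmul_eq_mul, mul_one] at this
  exact qC_ne (F := F) this

omit [Fintype F] in
theorem two_ne_of_three (h3 : (3 : F) = 0) : (2 : F) ≠ 0 := fun h => one_ne_zero (α := F) (by
  linear_combination h3 - h)

theorem exists_cube (h3 : (3 : F) = 0) (y : F) : ∃ x : F, x ^ 3 = y := by
  have hinj : Function.Injective fun x : F => x ^ 3 := fun a b (h : a ^ 3 = b ^ 3) => by
    have : (a - b) ^ 3 = 0 := by linear_combination h + (a * b ^ 2 - a ^ 2 * b) * h3
    exact sub_eq_zero.1 (eq_zero_of_pow_eq_zero this)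
  exact (Finite.injective_iff_surjective.1 hinj) y

theorem card_cubic_le [DecidableEq F] (h3 : (3 : F) = 0) {b : F} (hb : b ≠ 0) (g C : F) :
    (Finset.univ.filter fun u : F => u * g - u ^ 3 * b = C).card ≤ 3 := by
  set S := Finset.univ.filter fun u : F => u * g - u ^ 3 * b = C with hS
  rcases S.eq_empty_or_nonempty with h | ⟨u₁, hu₁⟩
  · simp [h]
  have hdiff : ∀ u ∈ S, (u - u₁) * (g - (u - u₁) ^ 2 * b) = 0 := fun u hu => by
    have e1 := (Finset.mem_filter.1 hu).2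
    have e0 := (Finset.mem_filter.1 hu₁).2
    linear_combination e1 - e0 + (u ^ 2 * u₁ - u * u₁ ^ 2) * b * h3
  by_cases hex : ∃ u ∈ S, u ≠ u₁
  · obtain ⟨u₀, h0, hne⟩ := hex
    refine (Finset.card_le_card (fun u hu => ?_)).trans (Finset.card_le_three (a := u₁) (b := u₀)
      (c := u₁ + u₁ - u₀))
    have e0 := (mul_eq_zero.1 (hdiff u₀ h0)).resolve_left (sub_ne_zero.2 hne)
    simp only [Finset.mem_insert, Finset.mem_singleton]
    rcases mul_eq_zero.1 (hdiff u hu) with e | e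
    · exact Or.inl (sub_eq_zero.1 e)
    · have hsq : (u - u₁) ^ 2 = (u₀ - u₁) ^ 2 :=
        mul_right_cancel₀ hb (by linear_combination e0 - e)
      rcases eq_or_eq_neg_of_sq_eq_sq _ _ hsq with e' | e'
      · exact Or.inr (Or.inl (by linear_combination e'))
      · exact Or.inr (Or.inr (by linear_combination e'))
  · push Not at hex
    refine le_trans (Finset.card_le_card (t := {u₁}) fun u hu => Finset.mem_singleton.2 (hex u hu)) ?_
    simp

end Field

variable {F : Type*} [Field F] [Fintype F] {V : Type*} [AddCommGroup V] [Module ℂ V]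
  (ρ : Representation ℂ (GG F) V)

/-- The projection to a weight of `3a+b`. -/
noncomputable def E10 (s : F) : Module.End ℂ V :=
  avg ρ (fun t : F => xx F 10 t) (fun t => chi0 F (s * t))

theorem qel_1011 (t z : F) : qel 0 0 0 t z = xx F 10 t * xx F 11 z := by simp [qel, xx_zero]

theorem E2_eq (s c : F) : E2 ρ s c = E10 ρ s * EZ ρ c := by
  have h := map_FT (LinearMap.mulRight ℂ (EZ ρ c)) (fun t => ρ (xx F 10 t)) s
  simp only [LinearMap.mulRight_apply] at h
  simp only [E10, avg_one, h, E2, avg_two, f2]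
  refine FT_congr (fun t => ?_) s
  have h2 := map_FT (LinearMap.mulLeft ℂ (ρ (xx F 10 t))) (fun z => ρ (xx F 11 z)) c
  simp only [LinearMap.mulLeft_apply] at h2
  simp only [EZ, avg_one, h2, qel_1011, map_mul]

theorem E2_eq' (s c : F) : E2 ρ s c = EZ ρ c * E10 ρ s := by
  have h := map_FT (LinearMap.mulLeft ℂ (EZ ρ c)) (fun t => ρ (xx F 10 t)) s
  simp only [LinearMap.mulLeft_apply] at h
  simp only [E10, avg_one, h, E2, avg_two, f2]
  refine FT_congr (fun t => ?_) s
  have h2 := map_FT (LinearMap.mulRight ℂ (ρ (xx F 10 t))) (fun z => ρ (xx F 11 z)) c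
  simp only [LinearMap.mulRight_apply] at h2
  simp only [EZ, avg_one, h2, qel_1011, ← map_mul, (comm_10_11 t _).eq]

variable [FiniteDimensional ℂ V]

theorem short_fix (h3 : (3 : F) = 0) {c : F} (hz : ∀ a b : F, a ≠ 0 ∨ b ≠ 0 → Rz ρ a b c = 0)
    (t : F) : ρ (xx F 8 t) * EZ ρ c = EZ ρ c ∧ ρ (xx F 9 t) * EZ ρ c = EZ ρ c := by
  have hv : ∀ a b : F, a ≠ 0 ∨ b ≠ 0 →
      avg ρ fz (fun t => chi0 F (a * t.1 + b * t.2.1 + c * t.2.2)) = 0 :=
    fun a b h => avg_eq_zero ρ (hz a b h)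
  have e8 : ∀ a, FT (fun t => ρ (xx F 8 t) * EZ ρ c) a =
      ∑ b, avg ρ fz (fun t => chi0 F (a * t.1 + b * t.2.1 + c * t.2.2)) := fun a => by
    simp only [avg_three, fz, ← FT_sum, sum_FT]
    refine FT_congr (fun t => ?_) a
    have h2 := map_FT (LinearMap.mulLeft ℂ (ρ (xx F 8 t))) (fun z => ρ (xx F 11 z)) c
    simp only [LinearMap.mulLeft_apply] at h2
    simp [EZ, avg_one, h2, qel, xx_zero]
  have e9 : ∀ b, FT (fun t => ρ (xx F 9 t) * EZ ρ c) b =
      ∑ a, avg ρ fz (fun t => chi0 F (a * t.1 + b * t.2.1 + c * t.2.2)) := fun b => by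
    simp only [avg_three, fz, ← FT_sum, sum_FT]
    refine FT_congr (fun t => ?_) b
    have h2 := map_FT (LinearMap.mulLeft ℂ (ρ (xx F 9 t))) (fun z => ρ (xx F 11 z)) c
    simp only [LinearMap.mulLeft_apply] at h2
    simp [EZ, avg_one, h2, qel, xx_zero]
  constructor
  · have := eq_const_of_FT _ (fun a ha => (e8 a).trans
      (Finset.sum_eq_zero fun b _ => hv a b (Or.inl ha))) t
    simpa [xx_zero] using this
  · have := eq_const_of_FT _ (fun b hb => (e9 b).trans
      (Finset.sum_eq_zero fun a _ => hv a b (Or.inr hb))) t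
    simpa [xx_zero] using this

/-- The short roots cannot be trivial off the centre. -/
theorem short_nontrivial [ρ.IsIrreducible] (h3 : (3 : F) = 0) (hq : 4 ≤ Fintype.card F)
    (hd : 2 ≤ finrank ℂ V) :
    ¬ ∀ c, c ≠ 0 → ∀ a b : F, a ≠ 0 ∨ b ≠ 0 → Rz ρ a b c = 0 := by
  classical
  intro hz
  have hfix := fun (c : F) (hc : c ≠ 0) => short_fix ρ h3 (hz c hc)
  obtain ⟨c, hc, hN⟩ := exists_NZ_ne ρ (by omega) hd
  rw [← card_mul_N2 ρ hc] at hN
  obtain ⟨v, -, hv⟩ := Finset.exists_mem_notMem_of_card_lt_card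
    (s := ({0, 1 / c, -(1 / c)} : Finset F)) (t := Finset.univ)
    (by rw [Finset.card_univ]; have := Finset.card_le_three (a := (0 : F)) (b := 1 / c) (c := -(1 / c)); omega)
  simp only [Finset.mem_insert, Finset.mem_singleton, not_or] at hv
  obtain ⟨hv0, hv1, hv2⟩ := hv
  have hs' : (1 : F) - c * v ≠ 0 := fun h => hv1 (by field_simp; linear_combination -h)
  have hs'' : (1 : F) + c * v ≠ 0 := fun h => hv2 (by field_simp; linear_combination h)
  have hconj : ∀ c', ρ (nb F) * EZ ρ c' = E10 ρ (-c') * ρ (nb F) := fun c' =>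
    conj_avg ρ (nb F) (Equiv.neg F) (fun t => by rw [nb_11]; rfl) fun t => by
      simp only [Equiv.neg_apply]
      congr 1; ring
  have h7 : ∀ s : F, s ≠ 0 → ∀ u, ρ (xx F 7 u) * E10 ρ s = E10 ρ s := by
    intro s hs u
    have hu : IsUnit (ρ (nb F)) :=
      IsUnit.map ρ (Group.isUnit _)
    refine hu.mul_right_cancel ?_
    have := hconj (-s)
    rw [neg_neg] at this
    rw [mul_assoc, ← this, ← mul_assoc, ← map_mul,
      show xx F 7 u * nb F = nb F * xx F 8 (-u) by rw [nb_8, neg_neg],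
      map_mul, mul_assoc, (hfix (-s) (neg_ne_zero.2 hs) (-u)).1]
  have f7 : ∀ s : F, s ≠ 0 → ∀ u, ρ (xx F 7 u) * E2 ρ s c = E2 ρ s c := fun s hs u => by
    rw [E2_eq, ← mul_assoc, h7 s hs u]
  have f8 : ∀ s u : F, ρ (xx F 8 u) * E2 ρ s c = E2 ρ s c := fun s u => by
    rw [E2_eq', ← mul_assoc, (hfix c hc u).1]
  have f9 : ∀ s u : F, ρ (xx F 9 u) * E2 ρ s c = E2 ρ s c := fun s u => by
    rw [E2_eq', ← mul_assoc, (hfix c hc u).2]
  have h6 : ρ (xx F 6 v) * E2 ρ 1 c = E2 ρ (1 - c * v) c * ρ (xx F 6 v) := by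
    rw [← qel_6]
    refine conj_avg ρ (qel v 0 0 0 0) ⟨fun t => (t.1, t.2 + t.1 * v), fun t => (t.1, t.2 - t.1 * v),
      fun t => Prod.ext rfl (by simp), fun t => Prod.ext rfl (by simp)⟩ (fun t => ?_) fun t => ?_
    · simp only [f2, qel_mul, Equiv.coe_fn_mk]; congr 1 <;> ring
    · simp only [Equiv.coe_fn_mk]; congr 1; ring
  have hE : E2 ρ 1 c ≠ 0 := fun h => hN (by
    have h0 : N2 ρ 1 c = 0 := by simp [N2, h]
    rw [← N2_eq_zero ρ hc 1, h0, mul_zero])
  have hone : ∀ u, chi0 F (-(u ^ 3 * (v * (1 + c * v)))) = 1 := by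
    intro u
    have hrel : xx F 7 (-u) * (xx F 6 v * xx F 7 u) =
        xx F 6 v * (xx F 8 (u * v) * (xx F 9 (u ^ 2 * v) *
          (xx F 10 (-(u ^ 3 * v)) * xx F 11 (-(u ^ 3 * v ^ 2))))) := by
      rw [mul_6_7, xx_neg]
      simp only [← mul_assoc, inv_mul_cancel, one_mul]
    have hL : ρ (xx F 7 (-u) * (xx F 6 v * xx F 7 u)) * E2 ρ 1 c = ρ (xx F 6 v) * E2 ρ 1 c := by
      simp only [map_mul, mul_assoc]
      rw [f7 1 one_ne_zero u, h6, ← mul_assoc, f7 _ hs' (-u)]
    have hW : ρ (xx F 10 (-(u ^ 3 * v)) * xx F 11 (-(u ^ 3 * v ^ 2))) * E2 ρ 1 c =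
        chi0 F (-(u ^ 3 * (v * (1 + c * v)))) • E2 ρ 1 c := by
      have := mul_avg ρ (charOn_f2 (1 : F) c) (-(u ^ 3 * v), -(u ^ 3 * v ^ 2))
      rw [show -(u ^ 3 * (v * (1 + c * v))) = 1 * -(u ^ 3 * v) + c * -(u ^ 3 * v ^ 2) by ring]
      rw [← qel_1011]
      exact this
    rw [hrel] at hL
    rw [map_mul] at hW
    simp only [map_mul, mul_assoc] at hL hW
    rw [hW] at hL
    simp only [mul_smul_comm, f8, f9] at hL
    by_contra hne
    have h1 : (chi0 F (-(u ^ 3 * (v * (1 + c * v)))) - 1) • (ρ (xx F 6 v) * E2 ρ 1 c) = 0 := by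
      rw [sub_smul, one_smul, hL, sub_self]
    have hzero := (smul_eq_zero.1 h1).resolve_left (sub_ne_zero.2 hne)
    refine hE ?_
    have hu : IsUnit (ρ (xx F 6 v)) := IsUnit.map ρ (Group.isUnit _)
    exact hu.mul_left_cancel (hzero.trans (mul_zero _).symm)
  refine mul_ne_zero hv0 hs'' (neg_eq_zero.1 (chi0_nondeg fun t => ?_))
  obtain ⟨u, rfl⟩ := exists_cube h3 t
  rw [← hone u]
  congr 1; ring

end CfsgLib.G2Deg
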