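import Cfsg.Agent.Lib.Geo.G2MinDeg.Weights

/-!
# Abelian subgroups of the radical in characteristic three

Owner: helper23.
-/

set_option autoImplicit false

namespace CfsgLib.G2Deg

open Module CfsgLib.SLMinDeg CfsgLib.HallGen.ChevG2

variable {F : Type*} [Field F] [Fintype F]

theorem charOn_chi {T : Type*} [Add T] {f : T → GG F} (hinj : Function.Injective f)
    (hadd : ∀ t u, f t * f u = f (t + u)) {φ : T → F} (hφ : ∀ t u, φ (t + u) = φ t + φ u) :
    CharOn f (fun t => chi0 F (φ t)) where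
  inj := hinj
  ne _ := chi0_ne _
  mul t u := ⟨t + u, hadd t u, by rw [hφ, AddChar.map_add_eq_mul]⟩

/-- The roots `a+b`, `2a+b`, `3a+2b`. -/
noncomputable def fz (t : F × F × F) : GG F := qel 0 t.1 t.2.1 0 t.2.2
/-- The roots `2a+b`, `3a+b`, `3a+2b`. -/
noncomputable def f9b (t : F × F × F) : GG F := qel 0 0 t.1 t.2.1 t.2.2
/-- The roots `a+b`, `3a+b`, `3a+2b`. -/
noncomputable def f8b (t : F × F × F) : GG F := qel 0 t.1 0 t.2.1 t.2.2
/-- The roots `2a+b`, `3a+2b`. -/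
noncomputable def f911 (t : F × F) : GG F := qel 0 0 t.1 0 t.2
/-- The roots `2a+b`, `3a+b`. -/
noncomputable def f910 (t : F × F) : GG F := qel 0 0 t.1 t.2 0
/-- The roots `a+b`, `3a+2b`. -/
noncomputable def f811 (t : F × F) : GG F := qel 0 t.1 0 0 t.2
/-- The roots `a+b`, `3a+b`. -/
noncomputable def f810 (t : F × F) : GG F := qel 0 t.1 0 t.2 0
/-- The roots `a`, `3a+2b`. -/
noncomputable def f711 (t : F × F) : GG F := uel 0 t.1 0 0 0 t.2

theorem qel_inj {a b c d e a' b' c' d' e' : F} (h : qel a b c d e = qel a' b' c' d' e') :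
    a = a' ∧ b = b' ∧ c = c' ∧ d = d' ∧ e = e' := by
  simp only [qel_eq_uel] at h
  obtain ⟨h1, -, h2, h3, h4, h5⟩ := uel_inj h
  exact ⟨h1, h2, h3, h4, h5⟩

theorem charOn_fz (h3 : (3 : F) = 0) (a b c : F) :
    CharOn (fz (F := F)) (fun t => chi0 F (a * t.1 + b * t.2.1 + c * t.2.2)) :=
  charOn_chi (fun t u h => by
      obtain ⟨-, e1, e2, -, e3⟩ := qel_inj h
      exact Prod.ext e1 (Prod.ext e2 e3))
    (fun t u => by simp only [fz, qel_mul]; congr 1 <;> simp [h3]) (fun t u => by simp; ring)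

theorem charOn_f9b (a b c : F) :
    CharOn (f9b (F := F)) (fun t => chi0 F (a * t.1 + b * t.2.1 + c * t.2.2)) :=
  charOn_chi (fun t u h => by
      obtain ⟨-, -, e1, e2, e3⟩ := qel_inj h
      exact Prod.ext e1 (Prod.ext e2 e3))
    (fun t u => by simp only [f9b, qel_mul]; congr 1 <;> simp) (fun t u => by simp; ring)

theorem charOn_f8b (a b c : F) :
    CharOn (f8b (F := F)) (fun t => chi0 F (a * t.1 + b * t.2.1 + c * t.2.2)) :=
  charOn_chi (fun t u h => by
      obtain ⟨-, e1, -, e2, e3⟩ := qel_inj h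
      exact Prod.ext e1 (Prod.ext e2 e3))
    (fun t u => by simp only [f8b, qel_mul]; congr 1 <;> simp) (fun t u => by simp; ring)

theorem charOn_f911 (a b : F) :
    CharOn (f911 (F := F)) (fun t => chi0 F (a * t.1 + b * t.2)) :=
  charOn_chi (fun t u h => by
      obtain ⟨-, -, e1, -, e2⟩ := qel_inj h
      exact Prod.ext e1 e2)
    (fun t u => by simp only [f911, qel_mul]; congr 1 <;> simp) (fun t u => by simp; ring)

theorem charOn_f910 (a b : F) :
    CharOn (f910 (F := F)) (fun t => chi0 F (a * t.1 + b * t.2)) :=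
  charOn_chi (fun t u h => by
      obtain ⟨-, -, e1, e2, -⟩ := qel_inj h
      exact Prod.ext e1 e2)
    (fun t u => by simp only [f910, qel_mul]; congr 1 <;> simp) (fun t u => by simp; ring)

theorem charOn_f811 (a b : F) :
    CharOn (f811 (F := F)) (fun t => chi0 F (a * t.1 + b * t.2)) :=
  charOn_chi (fun t u h => by
      obtain ⟨-, e1, -, -, e2⟩ := qel_inj h
      exact Prod.ext e1 e2)
    (fun t u => by simp only [f811, qel_mul]; congr 1 <;> simp) (fun t u => by simp; ring)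

theorem charOn_f810 (a b : F) :
    CharOn (f810 (F := F)) (fun t => chi0 F (a * t.1 + b * t.2)) :=
  charOn_chi (fun t u h => by
      obtain ⟨-, e1, -, e2, -⟩ := qel_inj h
      exact Prod.ext e1 e2)
    (fun t u => by simp only [f810, qel_mul]; congr 1 <;> simp) (fun t u => by simp; ring)

theorem f711_eq (t : F × F) : f711 t = xx F 7 t.1 * xx F 11 t.2 := by simp [f711, uel, xx_zero]

theorem charOn_f711 (a b : F) :
    CharOn (f711 (F := F)) (fun t => chi0 F (a * t.1 + b * t.2)) :=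
  charOn_chi (fun t u h => by
      obtain ⟨-, e1, -, -, -, e2⟩ := uel_inj h
      exact Prod.ext e1 e2)
    (fun t u => by
      simp only [f711_eq, Prod.fst_add, Prod.snd_add, ← xx_add]
      exact (comm_7_11 u.1 t.2).mul_mul_mul_comm _ _) (fun t u => by simp; ring)

variable {V : Type*} [AddCommGroup V] [Module ℂ V] [FiniteDimensional ℂ V]
  (ρ : Representation ℂ (GG F) V)

/-- The multiplicity of a weight of `a+b`, `2a+b`, `3a+2b`. -/
noncomputable def Rz (a b c : F) : ℕ := rk ρ fz (fun t => chi0 F (a * t.1 + b * t.2.1 + c * t.2.2))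
/-- The multiplicity of a weight of `2a+b`, `3a+b`, `3a+2b`. -/
noncomputable def R9b (a b c : F) : ℕ := rk ρ f9b (fun t => chi0 F (a * t.1 + b * t.2.1 + c * t.2.2))
/-- The multiplicity of a weight of `a+b`, `3a+b`, `3a+2b`. -/
noncomputable def R8b (a b c : F) : ℕ := rk ρ f8b (fun t => chi0 F (a * t.1 + b * t.2.1 + c * t.2.2))

theorem sum_Rz (h3 : (3 : F) = 0) (c : F) : ∑ a, ∑ b, Rz ρ a b c = NZ ρ c := by
  rw [← Fintype.sum_prod_type' (f := fun a b => Rz ρ a b c)]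
  exact sum_rk ρ Finset.univ (fun p => charOn_fz h3 p.1 p.2 c) (charOn_f1 c) (by
    rw [Fintype.sum_prod_type]
    simp only [avg_one, avg_three, fz, ← FT_sum, sum_FT, qel_11])

theorem sum_Rz_left (h3 : (3 : F) = 0) (γ c : F) :
    ∑ a, Rz ρ a γ c = rk ρ f911 (fun t => chi0 F (γ * t.1 + c * t.2)) :=
  sum_rk ρ Finset.univ (fun a => charOn_fz h3 a γ c) (charOn_f911 γ c) (by
    simp only [avg_two, avg_three, fz, f911, ← FT_sum, sum_FT])

theorem sum_Rz_right (h3 : (3 : F) = 0) (α c : F) :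
    ∑ b, Rz ρ α b c = rk ρ f811 (fun t => chi0 F (α * t.1 + c * t.2)) :=
  sum_rk ρ Finset.univ (fun b => charOn_fz h3 α b c) (charOn_f811 α c) (by
    simp only [avg_two, avg_three, fz, f811, ← FT_sum, sum_FT])

theorem sum_R9b_mid (γ c : F) :
    ∑ δ, R9b ρ γ δ c = rk ρ f911 (fun t => chi0 F (γ * t.1 + c * t.2)) :=
  sum_rk ρ Finset.univ (fun δ => charOn_f9b γ δ c) (charOn_f911 γ c) (by
    simp only [avg_two, avg_three, f9b, f911, ← FT_sum, sum_FT])

theorem sum_R9b_top (γ δ : F) :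
    ∑ c, R9b ρ γ δ c = rk ρ f910 (fun t => chi0 F (γ * t.1 + δ * t.2)) :=
  sum_rk ρ Finset.univ (fun c => charOn_f9b γ δ c) (charOn_f910 γ δ) (by
    simp only [avg_two, avg_three, f9b, f910, ← FT_sum, sum_FT])

theorem sum_R8b_mid (α c : F) :
    ∑ δ, R8b ρ α δ c = rk ρ f811 (fun t => chi0 F (α * t.1 + c * t.2)) :=
  sum_rk ρ Finset.univ (fun δ => charOn_f8b α δ c) (charOn_f811 α c) (by
    simp only [avg_two, avg_three, f8b, f811, ← FT_sum, sum_FT])

theorem sum_R8b_top (α δ : F) :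
    ∑ c, R8b ρ α δ c = rk ρ f810 (fun t => chi0 F (α * t.1 + δ * t.2)) :=
  sum_rk ρ Finset.univ (fun c => charOn_f8b α δ c) (charOn_f810 α δ) (by
    simp only [avg_two, avg_three, f8b, f810, ← FT_sum, sum_FT])

theorem avg_qf (a b c d : F) : avg ρ qf (th a b c d) = E0 ρ a b c d := rfl

theorem rk_qf (a b c d : F) : rk ρ qf (th a b c d) = N0 ρ a b c d := rfl

theorem R9b_zero (γ δ : F) : R9b ρ γ δ 0 = ∑ a, ∑ b, N0 ρ a b γ δ := by
  rw [← Fintype.sum_prod_type' (f := fun a b => N0 ρ a b γ δ)]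
  have h := sum_rk ρ Finset.univ (θ := fun p : F × F => th p.1 p.2 γ δ) (fun p => charOn_th p.1 p.2 γ δ) (charOn_f9b γ δ 0) (by
    rw [Fintype.sum_prod_type]
    simp only [avg_qf, avg_three, f9b, E0_eq, ← FT_sum, sum_FT])
  simp only [rk_qf] at h
  exact h.symm

theorem R8b_zero (α δ : F) : R8b ρ α δ 0 = ∑ a, ∑ b, N0 ρ a α b δ := by
  rw [← Fintype.sum_prod_type' (f := fun a b => N0 ρ a α b δ)]
  have h := sum_rk ρ Finset.univ (θ := fun p : F × F => th p.1 α p.2 δ) (fun p => charOn_th p.1 α p.2 δ) (charOn_f8b α δ 0) (by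
    rw [Fintype.sum_prod_type]
    simp only [avg_qf, avg_three, f8b, E0_eq, ← FT_sum, sum_FT])
  simp only [rk_qf] at h
  exact h.symm

theorem Rz_zero (h3 : (3 : F) = 0) (α γ : F) :
    Rz ρ α γ 0 = ∑ a, ∑ d, N0 ρ a α γ d := by
  rw [← Fintype.sum_prod_type' (f := fun a d => N0 ρ a α γ d)]
  have h := sum_rk ρ Finset.univ (θ := fun p : F × F => th p.1 α γ p.2) (fun p => charOn_th p.1 α γ p.2) (charOn_fz h3 α γ 0) (by
    rw [Fintype.sum_prod_type]
    simp only [avg_qf, avg_three, fz, E0_eq, ← FT_sum, sum_FT])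
  simp only [rk_qf] at h
  exact h.symm

theorem fz_x7 (h3 : (3 : F) = 0) (u : F) (t : F × F × F) :
    fz t * xx F 7 u = xx F 7 u * fz (t.1, t.2.1 + 2 * u * t.1, t.2.2) := by
  have h9 : xx F 9 t.2.1 * xx F 7 u = xx F 7 u * xx F 9 t.2.1 := by
    rw [mul_9_7, h3]; simp [xx_zero]
  have h8 : xx F 8 t.1 * xx F 7 u = xx F 7 u * (xx F 8 t.1 * xx F 9 (2 * u * t.1)) := by
    rw [mul_8_7, h3]; simp [xx_zero, mul_assoc]
  simp only [fz, qel, xx_zero, one_mul]
  calc _ = xx F 8 t.1 * (xx F 9 t.2.1 * (xx F 11 t.2.2 * xx F 7 u)) := by simp only [mul_assoc]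
    _ = xx F 8 t.1 * (xx F 9 t.2.1 * (xx F 7 u * xx F 11 t.2.2)) := by rw [(comm_7_11 u t.2.2).eq]
    _ = xx F 8 t.1 * (xx F 7 u * (xx F 9 t.2.1 * xx F 11 t.2.2)) := by
      rw [← mul_assoc (xx F 9 t.2.1), h9, mul_assoc]
    _ = _ := by
      rw [← mul_assoc, h8, add_comm t.2.1, ← xx_add]
      simp only [mul_assoc]

theorem Rz_x7 (h3 : (3 : F) = 0) (u a b c : F) : Rz ρ (a + 2 * u * b) b c = Rz ρ a b c := by
  refine rk_conj ρ (charOn_fz h3 _ _ _) (charOn_fz h3 _ _ _) (xx F 7 u)⁻¹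
    (fun t => (t.1, t.2.1 + 2 * u * t.1, t.2.2)) (fun t => ?_) fun t => ?_
  · rw [inv_mul_eq_iff_eq_mul, ← mul_assoc, eq_mul_inv_iff_mul_eq]
    exact fz_x7 h3 u t
  · congr 1; ring

theorem Rz_na (h3 : (3 : F) = 0) (a b c : F) : Rz ρ (-b) a c = Rz ρ a b c := by
  refine (rk_conj ρ (charOn_fz h3 _ _ _) (charOn_fz h3 _ _ _) (na F)
    (fun t => (-t.2.1, t.1, t.2.2)) (fun t => ?_) fun t => ?_).symm
  · simp only [fz, qel_na]
    congr 2 <;> simp [h3]
  · congr 1; ring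

theorem Rz_tor (h3 : (3 : F) = 0) (τ σ : Fˣ) (a b c : F) :
    Rz ρ ((τ : F) * σ * a) ((τ : F) ^ 2 * σ * b) ((τ : F) ^ 3 * (σ : F) ^ 2 * c) = Rz ρ a b c := by
  refine rk_conj ρ (charOn_fz h3 _ _ _) (charOn_fz h3 _ _ _) (tor F τ σ)
    (fun t => ((τ : F) * σ * t.1, (τ : F) ^ 2 * σ * t.2.1, (τ : F) ^ 3 * (σ : F) ^ 2 * t.2.2))
    (fun t => ?_) fun t => ?_
  · simp only [fz, qel_tor]
    congr 2 <;> simp
  · congr 1; ring

theorem R9b_x6 (v γ δ c : F) : R9b ρ γ (δ - c * v) c = R9b ρ γ δ c := by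
  refine (rk_conj ρ (charOn_f9b _ _ _) (charOn_f9b _ _ _) (qel v 0 0 0 0)
    (fun t => (t.1, t.2.1, t.2.2 + t.2.1 * v)) (fun t => ?_) fun t => ?_).symm
  · simp only [f9b, qel_mul]; congr 1 <;> ring
  · congr 1; ring

theorem R8b_x6 (v α δ c : F) : R8b ρ α (δ - c * v) c = R8b ρ α δ c := by
  refine (rk_conj ρ (charOn_f8b _ _ _) (charOn_f8b _ _ _) (qel v 0 0 0 0)
    (fun t => (t.1, t.2.1, t.2.2 + t.2.1 * v)) (fun t => ?_) fun t => ?_).symm
  · simp only [f8b, qel_mul]; congr 1 <;> ring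
  · congr 1; ring

theorem R9b_eq_zero {c : F} (hc : c ≠ 0) (γ δ : F) : R9b ρ γ δ c = R9b ρ γ 0 c := by
  have := R9b_x6 ρ (δ / c) γ δ c
  rw [show δ - c * (δ / c) = 0 by field_simp; ring] at this
  exact this.symm

theorem R8b_eq_zero {c : F} (hc : c ≠ 0) (α δ : F) : R8b ρ α δ c = R8b ρ α 0 c := by
  have := R8b_x6 ρ (δ / c) α δ c
  rw [show δ - c * (δ / c) = 0 by field_simp; ring] at this
  exact this.symm

theorem rk_911_910 (γ c : F) :
    rk ρ f911 (fun t => chi0 F (γ * t.1 + c * t.2)) =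
      rk ρ f910 (fun t => chi0 F (γ * t.1 + -c * t.2)) := by
  refine rk_conj' ρ (charOn_f911 _ _) (charOn_f910 _ _) (nb F)
    ((Equiv.refl F).prodCongr (Equiv.neg F)) (fun t => ?_) fun t => ?_
  · simp only [f911, f910, qel, xx_zero, one_mul, mul_one, Equiv.prodCongr_apply, Prod.map,
      Equiv.refl_apply, Equiv.neg_apply]
    rw [← mul_assoc, nb_9, mul_assoc, nb_11, ← mul_assoc]
  · simp only [Equiv.prodCongr_apply, Prod.map, Equiv.refl_apply, Equiv.neg_apply]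
    congr 1; ring

theorem rk_711_810 (α c : F) :
    rk ρ f711 (fun t => chi0 F (α * t.1 + c * t.2)) =
      rk ρ f810 (fun t => chi0 F (α * t.1 + -c * t.2)) := by
  refine rk_conj' ρ (charOn_f711 _ _) (charOn_f810 _ _) (nb F)
    ((Equiv.refl F).prodCongr (Equiv.neg F)) (fun t => ?_) fun t => ?_
  · simp only [f711_eq, f810, qel, xx_zero, one_mul, mul_one, Equiv.prodCongr_apply, Prod.map,
      Equiv.refl_apply, Equiv.neg_apply]
    rw [← mul_assoc, nb_7, mul_assoc, nb_11, ← mul_assoc]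
  · simp only [Equiv.prodCongr_apply, Prod.map, Equiv.refl_apply, Equiv.neg_apply]
    congr 1; ring

end CfsgLib.G2Deg
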