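import Cfsg.Agent.Lib.Geo.G2MinDeg.Radical
import Cfsg.Agent.Lib.Char.Central
import Cfsg.Agent.Lib.Lie.Rel.Checks
import Cfsg.Agent.Lib.Lie.Rel.Facts

/-!
# Multiplicities of weights of small unipotent subgroups

Owner: helper23.
-/

set_option autoImplicit false

namespace CfsgLib.G2Deg

open Module CfsgLib.SLMinDeg CfsgLib.HallGen.ChevG2 CfsgLib.Lie.Chev

section Generic

variable {G : Type*} [Group G] {V : Type*} [AddCommGroup V] [Module ℂ V] [FiniteDimensional ℂ V]
  (ρ : Representation ℂ G V)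

/-- The multiplicity of a character of a family. -/
noncomputable def rk {T : Type*} [Fintype T] (f : T → G) (θ : T → ℂ) : ℕ :=
  finrank ℂ (LinearMap.range (avg ρ f θ))

theorem trace_rk {T : Type*} [Fintype T] [Nonempty T] {f : T → G} {θ : T → ℂ} (h : CharOn f θ) :
    LinearMap.trace ℂ V (avg ρ f θ) = (rk ρ f θ : ℂ) :=
  trace_avg ρ h

/-- Decomposition of a multiplicity. -/
theorem sum_rk {T T' ι : Type*} [Fintype T] [Nonempty T] [Fintype T'] [Nonempty T'] (s : Finset ι)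
    {f : T → G} {θ : ι → T → ℂ} {f' : T' → G} {θ' : T' → ℂ} (h : ∀ i, CharOn f (θ i))
    (h' : CharOn f' θ') (e : ∑ i ∈ s, avg ρ f (θ i) = avg ρ f' θ') :
    ∑ i ∈ s, rk ρ f (θ i) = rk ρ f' θ' := by
  have := congrArg (LinearMap.trace ℂ V) e
  simp only [map_sum, trace_rk ρ (h _), trace_rk ρ h'] at this
  exact_mod_cast this

/-- Conjugate characters have the same multiplicity. -/
theorem rk_conj {T : Type*} [Fintype T] [Nonempty T] {f : T → G} {θ θ' : T → ℂ} (h : CharOn f θ)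
    (h' : CharOn f θ') (g : G) (σ : T → T) (hσ : ∀ t, g * f t = f (σ t) * g)
    (hθ : ∀ t, θ' (σ t) = θ t) : rk ρ f θ = rk ρ f θ' := by
  have hinj : Function.Injective σ := fun t u e => h.inj (mul_left_cancel (a := g) (by
    rw [hσ, hσ, e]))
  exact rank_eq_of_conj ρ h h' g
    (conj_avg ρ g (Equiv.ofBijective σ (Finite.injective_iff_bijective.1 hinj)) hσ hθ)

/-- Conjugate families have the same multiplicities. -/
theorem rk_conj' {T T' : Type*} [Fintype T] [Nonempty T] [Fintype T'] [Nonempty T'] {f : T → G}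
    {θ : T → ℂ} {f' : T' → G} {θ' : T' → ℂ} (h : CharOn f θ) (h' : CharOn f' θ') (g : G)
    (σ : T ≃ T') (hσ : ∀ t, g * f t = f' (σ t) * g) (hθ : ∀ t, θ' (σ t) = θ t) :
    rk ρ f θ = rk ρ f' θ' :=
  rank_eq_of_conj ρ h h' g (conj_avg ρ g σ hσ hθ)

end Generic

theorem xx_inj {F : Type*} [Field F] {t u : F} (h : xx F 11 t = xx F 11 u) : t = u := by
  simp only [← qel_11, qel_eq_uel] at h
  exact (uel_inj h).2.2.2.2.2

variable {F : Type*} [Field F] [Fintype F] {V : Type*} [AddCommGroup V] [Module ℂ V]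
  [FiniteDimensional ℂ V] (ρ : Representation ℂ (GG F) V)

theorem exists_ne_zero_one (hq : 2 < Fintype.card F) : ∃ a : F, a ≠ 0 ∧ a ≠ 1 := by
  classical
  obtain ⟨a, -, ha⟩ := Finset.exists_mem_notMem_of_card_lt_card
    (s := {(0 : F), 1}) (t := (Finset.univ : Finset F))
    (by rw [Finset.card_pair zero_ne_one, Finset.card_univ]; omega)
  simp only [Finset.mem_insert, Finset.mem_singleton, not_or] at ha
  exact ⟨a, ha⟩

/-- A representation of the simple group of degree at least two is faithful. -/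
theorem ker_eq_bot [ρ.IsIrreducible] (hq : 2 < Fintype.card F) (hd : 2 ≤ finrank ℂ V) {g : GG F}
    (hg : ρ g = 1) : g = 1 := by
  haveI : IsSimpleGroup (GG F) := (isSimple certG2 F (connected_of_mem (D := Cfsg.Lie.chevG2) (by simp))
    (perfectData_of_mem (D := Cfsg.Lie.chevG2) (by simp) F fun _ => exists_ne_zero_one hq)).1
  let K : Subgroup (GG F) :=
    { carrier := {x | ρ x = 1}
      mul_mem' := fun {a b} (ha : ρ a = 1) (hb : ρ b = 1) => show ρ (a * b) = 1 by
        rw [map_mul, ha, hb, mul_one]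
      one_mem' := map_one ρ
      inv_mem' := fun {a} (ha : ρ a = 1) => show ρ a⁻¹ = 1 by
        have := map_mul ρ a a⁻¹
        rw [mul_inv_cancel, map_one, ha, one_mul] at this
        exact this.symm }
  have hK : K.Normal := ⟨fun x (hx : ρ x = 1) y => show ρ (y * x * y⁻¹) = 1 by
    rw [map_mul, map_mul, hx, mul_one, ← map_mul, mul_inv_cancel, map_one]⟩
  rcases hK.eq_bot_or_eq_top with h | h
  · exact Subgroup.mem_bot.1 (h ▸ (show g ∈ K from hg))
  · exfalso
    have htriv : ∀ x, ρ x = 1 := fun x => (show x ∈ K from h ▸ Subgroup.mem_top x)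
    have hall : (⊤ : Submodule ℂ (Module.End ℂ V)) ≤ Submodule.span ℂ {1} := fun f _ => by
      obtain ⟨c, hc⟩ := CfsgLib.CharIntegral.exists_scalar_of_commute ρ f fun x => by
        rw [htriv x, mul_one, one_mul]
      rw [Submodule.mem_span_singleton]
      exact ⟨c, hc.symm⟩
    have h1 : finrank ℂ (Submodule.span ℂ {(1 : Module.End ℂ V)}) ≤ 1 :=
      (finrank_span_le_card _).trans_eq (by simp)
    have h2 := (finrank_top ℂ (Module.End ℂ V)) ▸ Submodule.finrank_mono hall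
    rw [Module.finrank_linearMap] at h2
    have : 4 ≤ finrank ℂ V * finrank ℂ V := Nat.mul_le_mul hd hd
    omega

/-- Some weight of the centre is not trivial. -/
theorem exists_NZ_ne [ρ.IsIrreducible] (hq : 2 < Fintype.card F) (hd : 2 ≤ finrank ℂ V) :
    ∃ c, c ≠ 0 ∧ NZ ρ c ≠ 0 := by
  by_contra hcon
  push Not at hcon
  have h : ρ (xx F 11 1) = ρ (xx F 11 0) := eq_const_of_FT (fun z => ρ (xx F 11 z)) (fun a ha => by
    rw [← avg_one]
    exact avg_eq_zero ρ (hcon a ha)) 1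
  rw [xx_zero, map_one] at h
  have := ker_eq_bot ρ hq hd h
  rw [← xx_zero (F := F) 11] at this
  exact one_ne_zero (xx_inj this)

theorem sum_NZ_split [DecidableEq F] :
    finrank ℂ V = NZ ρ 0 + ∑ c ∈ Finset.univ.filter (fun c : F => c ≠ 0), NZ ρ c := by
  classical
  rw [← sum_NZ ρ, ← Finset.sum_filter_add_sum_filter_not _ (fun c : F => c = 0),
    Finset.filter_eq', if_pos (Finset.mem_univ _), Finset.sum_singleton]

theorem N3_x10 (v β γ c : F) : N3 ρ (β + v * c) γ c = N3 ρ β γ c := by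
  refine (rk_conj ρ (charOn_f3 _ _ _) (charOn_f3 _ _ _) (qel 0 0 0 v 0)
    (fun t => (t.1, t.2.1, t.2.2 - v * t.1)) (fun t => ?_) fun t => ?_).symm
  · simp only [f3, qel_mul]; congr 1 <;> ring
  · congr 1; ring

theorem N3_x9 (v β γ c : F) : N3 ρ β (γ + 3 * v * c) c = N3 ρ β γ c := by
  refine (rk_conj ρ (charOn_f3 _ _ _) (charOn_f3 _ _ _) (qel 0 0 v 0 0)
    (fun t => (t.1, t.2.1, t.2.2 - 3 * v * t.2.1)) (fun t => ?_) fun t => ?_).symm
  · simp only [f3, qel_mul]; congr 1 <;> ring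
  · congr 1; ring

theorem f3_tor (τ σ : Fˣ) (t : F × F × F) :
    tor F τ σ * f3 t = f3 ((σ : F) * t.1, (τ : F) * σ * t.2.1, (τ : F) ^ 3 * (σ : F) ^ 2 * t.2.2) *
      tor F τ σ := by
  simp only [f3, qel_tor]
  congr 2 <;> simp

theorem N3_tor (τ σ : Fˣ) (β γ c : F) :
    N3 ρ ((σ : F) * β) ((τ : F) * σ * γ) ((τ : F) ^ 3 * (σ : F) ^ 2 * c) = N3 ρ β γ c := by
  refine rk_conj ρ (charOn_f3 _ _ _) (charOn_f3 _ _ _) (tor F τ σ) _ (f3_tor τ σ) fun t => ?_
  congr 1; ring

theorem N2_x6 (v s c : F) : N2 ρ (s - c * v) c = N2 ρ s c := by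
  refine (rk_conj ρ (charOn_f2 _ _) (charOn_f2 _ _) (qel v 0 0 0 0)
    (fun t => (t.1, t.2 + t.1 * v)) (fun t => ?_) fun t => ?_).symm
  · simp only [f2, qel_mul]; congr 1 <;> ring
  · congr 1; ring

theorem N2_eq_zero {c : F} (hc : c ≠ 0) (s : F) : N2 ρ s c = N2 ρ 0 c := by
  have := N2_x6 ρ (-(s / c)) 0 c
  rwa [show 0 - c * -(s / c) = s by field_simp; ring] at this

/-- The multiplicities of the top of the radical off the centre. -/
theorem card_mul_N2 {c : F} (hc : c ≠ 0) : Fintype.card F * N2 ρ 0 c = NZ ρ c := by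
  rw [← sum_N2 ρ c, Finset.sum_congr rfl fun s _ => N2_eq_zero ρ hc s, Finset.sum_const,
    Finset.card_univ, smul_eq_mul]

theorem f2_nb (t : F × F) : nb F * f2 t = f2 (-t.2, t.1) * nb F := by
  simp only [f2, qel, xx_zero, one_mul]
  rw [← mul_assoc, nb_10, mul_assoc, nb_11, ← mul_assoc, (comm_10_11 (-t.2) t.1).eq]

theorem N2_nb (s c : F) : N2 ρ (-c) s = N2 ρ s c := by
  refine (rk_conj ρ (charOn_f2 _ _) (charOn_f2 _ _) (nb F) _ f2_nb fun t => ?_).symm
  congr 1; ring

theorem N2_top (s : F) : N2 ρ s 0 = N2 ρ 0 s := by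
  have := N2_nb ρ s 0
  rw [neg_zero] at this
  exact this.symm

end CfsgLib.G2Deg
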